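/-
Abelian normal subgroups of a linear group transitive on nonzero vectors generate a field.
-/
import Mathlib.Algebra.Module.Hom
import Mathlib.Algebra.Ring.Subring.Basic
import Mathlib.RingTheory.IntegralDomain
import Mathlib.RingTheory.LittleWedderburn
import Mathlib.FieldTheory.Galois.Basic
import Mathlib.FieldTheory.Finite.GaloisField
import Mathlib.GroupTheory.GroupAction.Quotient

set_option autoImplicit false
set_option linter.style.haveILetI false
set_option linter.unusedSectionVars false

namespace Cfsg.Agent.TransLin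

universe u v

/-- A finite group acting faithfully by additive maps, transitively on nonzero vectors of exponent `q`. -/
structure Setup (G : Type u) (V : Type v) [Group G] [AddCommGroup V] [DistribMulAction G V] (q : ℕ) : Prop where
  prime : q.Prime
  exp : ∀ v : V, q • v = 0
  faithful : ∀ g : G, (∀ v : V, g • v = v) → g = 1
  trans : ∀ v w : V, v ≠ 0 → w ≠ 0 → ∃ g : G, g • v = w
  nontriv : ∃ v : V, v ≠ 0

variable {G : Type u} {V : Type v} [Group G] [AddCommGroup V] [DistribMulAction G V] {q : ℕ}

/-- The action as endomorphisms. -/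
abbrev tau (V : Type v) [AddCommGroup V] [DistribMulAction G V] : G →* AddMonoid.End V :=
  DistribMulAction.toAddMonoidEnd G V

theorem tau_apply (g : G) (v : V) : tau V g v = g • v := rfl

/-- The ring of endomorphisms generated by a subgroup. -/
abbrev ringOf (V : Type v) [AddCommGroup V] [DistribMulAction G V] (A : Subgroup G) : Subring (AddMonoid.End V) :=
  Subring.closure (tau V '' (A : Set G))

theorem tau_mem {A : Subgroup G} {a : G} (ha : a ∈ A) : tau V a ∈ ringOf V A := Subring.subset_closure ⟨a, ha, rfl⟩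

theorem commute_ringOf {A : Subgroup G} {g : G} (hg : ∀ a ∈ A, a * g = g * a) {k : AddMonoid.End V}
    (hk : k ∈ ringOf V A) : k * tau V g = tau V g * k := by
  induction hk using Subring.closure_induction with
  | mem x hx =>
    obtain ⟨a, ha, rfl⟩ := hx
    rw [← map_mul, hg a ha, map_mul]
  | zero => rw [zero_mul, mul_zero]
  | one => rw [one_mul, mul_one]
  | add x y _ _ hx hy => rw [add_mul, mul_add, hx, hy]
  | neg x _ hx => rw [neg_mul, mul_neg, hx]
  | mul x y _ _ hx hy => rw [mul_assoc, hy, ← mul_assoc, hx, mul_assoc]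

theorem ringOf_smul_comm {A : Subgroup G} {g : G} (hg : ∀ a ∈ A, a * g = g * a) {k : AddMonoid.End V}
    (hk : k ∈ ringOf V A) (v : V) : k (g • v) = g • k v :=
  DFunLike.congr_fun (commute_ringOf hg hk) v

theorem conj_mem {A : Subgroup G} (hA : A.Normal) (g : G) {k : AddMonoid.End V} (hk : k ∈ ringOf V A) :
    tau V g * k * tau V g⁻¹ ∈ ringOf V A := by
  induction hk using Subring.closure_induction with
  | mem x hx =>
    obtain ⟨a, ha, rfl⟩ := hx
    rw [← map_mul, ← map_mul]
    exact tau_mem (hA.conj_mem a ha g)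
  | zero => rw [mul_zero, zero_mul]; exact Subring.zero_mem _
  | one =>
    rw [mul_one, ← map_mul, mul_inv_cancel, map_one]
    exact Subring.one_mem _
  | add x y _ _ hx hy => rw [mul_add, add_mul]; exact Subring.add_mem _ hx hy
  | neg x _ hx => rw [mul_neg, neg_mul]; exact Subring.neg_mem _ hx
  | mul x y _ _ hx hy =>
    have h1 : tau V g⁻¹ * tau V g = 1 := by rw [← map_mul, inv_mul_cancel, map_one]
    have h := Subring.mul_mem _ hx hy
    rwa [show tau V g * x * tau V g⁻¹ * (tau V g * y * tau V g⁻¹) =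
      tau V g * x * (tau V g⁻¹ * tau V g) * y * tau V g⁻¹ by simp only [mul_assoc], h1, mul_one,
      show tau V g * x * y * tau V g⁻¹ = tau V g * (x * y) * tau V g⁻¹ by simp only [mul_assoc]] at h

theorem commutative_ringOf {A : Subgroup G} (hA : ∀ a ∈ A, ∀ b ∈ A, a * b = b * a) {k l : AddMonoid.End V}
    (hk : k ∈ ringOf V A) (hl : l ∈ ringOf V A) : k * l = l * k := by
  induction hl using Subring.closure_induction with
  | mem x hx =>
    obtain ⟨a, ha, rfl⟩ := hx
    exact commute_ringOf (fun b hb => hA b hb a ha) hk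
  | zero => rw [mul_zero, zero_mul]
  | one => rw [mul_one, one_mul]
  | add x y _ _ hx hy => rw [mul_add, add_mul, hx, hy]
  | neg x _ hx => rw [mul_neg, neg_mul, hx]
  | mul x y _ _ hx hy => rw [← mul_assoc, hx, mul_assoc, hy, ← mul_assoc]

/-- A subgroup maps into its ring. -/
noncomputable def toRing (A : Subgroup G) : A →* ringOf V A where
  toFun a := ⟨tau V (a : G), tau_mem a.2⟩
  map_one' := Subtype.ext (map_one _)
  map_mul' a b := Subtype.ext (map_mul _ _ _)

variable (S : Setup G V q) [Finite G] [Finite V]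
include S

/-- A nonzero element of the ring of an abelian normal subgroup is injective. -/
theorem Setup.injective {A : Subgroup G} (hA : A.Normal) (hc : ∀ a ∈ A, ∀ b ∈ A, a * b = b * a)
    {k : AddMonoid.End V} (hk : k ∈ ringOf V A) (hk0 : k ≠ 0) {v : V} (hv : k v = 0) : v = 0 := by
  classical
  let P : V → Prop := fun v => ∀ k ∈ ringOf V A, k v ≠ 0 → ∃ k' ∈ ringOf V A, k' (k v) = v
  have hP : ∀ v, P v := by
    obtain ⟨v₁, hv₁, hmin⟩ : ∃ v₁ : V, v₁ ≠ 0 ∧ P v₁ := by
      obtain ⟨v₁, hv₁, hmin⟩ := Set.exists_min_image {v : V | v ≠ 0}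
        (fun v => Set.ncard {w : V | ∃ k ∈ ringOf V A, k v = w}) (Set.toFinite _) S.nontriv
      refine ⟨v₁, hv₁, fun k hk hkv => ?_⟩
      have hsub : {w : V | ∃ l ∈ ringOf V A, l (k v₁) = w} ⊆ {w : V | ∃ l ∈ ringOf V A, l v₁ = w} := by
        rintro w ⟨l, hl, rfl⟩
        exact ⟨l * k, Subring.mul_mem _ hl hk, rfl⟩
      have he := Set.eq_of_subset_of_ncard_le hsub (hmin _ hkv) (Set.toFinite _)
      have : v₁ ∈ {w : V | ∃ l ∈ ringOf V A, l v₁ = w} := ⟨1, Subring.one_mem _, rfl⟩
      rw [← he] at this
      exact this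
    intro v k hk hkv
    have hv0 : v ≠ 0 := fun h => hkv (by rw [h, map_zero])
    obtain ⟨g, rfl⟩ := S.trans v₁ v hv₁ hv0
    have hc' : ∀ w, (tau V g⁻¹ * k * tau V g⁻¹⁻¹) w = g⁻¹ • k (g • w) := fun w => by
      rw [inv_inv]; rfl
    obtain ⟨k', hk', he⟩ := hmin _ (conj_mem hA g⁻¹ hk) (by
      rw [hc']
      exact fun h => hkv (smul_eq_zero_iff_eq g⁻¹ |>.1 h))
    refine ⟨tau V g * k' * tau V g⁻¹, conj_mem hA g hk', ?_⟩
    show g • k' (g⁻¹ • k (g • v₁)) = g • v₁
    rw [hc'] at he
    rw [he]
  by_contra hv0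
  obtain ⟨w, hw⟩ : ∃ w, k w ≠ 0 := by
    by_contra! h
    exact hk0 (DFunLike.ext _ _ fun w => h w)
  have h1 : k (v + w) = k w := by rw [map_add, hv, zero_add]
  obtain ⟨k', hk', he⟩ := hP (v + w) k hk (by rwa [h1])
  rw [h1] at he
  have h2 : (k' * k - 1) w = v := by
    show k' (k w) - w = v
    rw [he, add_sub_cancel_right]
  obtain ⟨l, hl, hle⟩ := hP w _ (Subring.sub_mem _ (Subring.mul_mem _ hk' hk) (Subring.one_mem _)) (by rwa [h2])
  rw [h2] at hle
  apply hw
  rw [← hle]
  show (k * l) v = 0
  rw [commutative_ringOf hc hk hl]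
  show l (k v) = 0
  rw [hv, map_zero]

theorem Setup.smul_eq_self {A : Subgroup G} (hA : A.Normal) (hc : ∀ a ∈ A, ∀ b ∈ A, a * b = b * a)
    {a : G} (ha : a ∈ A) {v : V} (hv : v ≠ 0) (hav : a • v = v) : a = 1 := by
  by_contra h
  refine hv (S.injective hA hc (Subring.sub_mem _ (tau_mem (V := V) ha) (Subring.one_mem _)) (fun h0 => h ?_) ?_)
  · exact S.faithful a fun w => sub_eq_zero.1 (DFunLike.congr_fun h0 w : a • w - w = 0)
  · show a • v - v = 0
    rw [hav, sub_self]

theorem Setup.tau_injective : Function.Injective (tau V : G → AddMonoid.End V) := fun a b h => by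
  have h' : ∀ v : V, (b⁻¹ * a) • v = v := fun v => by
    rw [mul_smul, show a • v = b • v from DFunLike.congr_fun h v, inv_smul_smul]
  exact (inv_mul_eq_one.1 (S.faithful _ h')).symm

/-- The ring of an abelian normal subgroup, as a field. -/
@[reducible] noncomputable def Setup.field {A : Subgroup G} (hA : A.Normal)
    (hc : ∀ a ∈ A, ∀ b ∈ A, a * b = b * a) : Field (ringOf V A) := by
  haveI : Nontrivial V := let ⟨v, hv⟩ := S.nontriv; ⟨v, 0, hv⟩
  haveI : Nontrivial (ringOf V A) := ⟨0, 1, fun h => by
    obtain ⟨v, hv⟩ := S.nontriv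
    exact hv (DFunLike.congr_fun (congrArg Subtype.val h) v).symm⟩
  haveI : NoZeroDivisors (ringOf V A) := ⟨fun {a b} hab => by
    by_contra! h
    refine h.2 (Subtype.ext (DFunLike.ext _ _ fun v => S.injective hA hc a.2 (fun e => h.1 (Subtype.ext e)) ?_))
    exact DFunLike.congr_fun (congrArg Subtype.val hab) v⟩
  haveI : IsDomain (ringOf V A) := NoZeroDivisors.to_isDomain _
  haveI : Finite (AddMonoid.End V) := Finite.of_injective (fun f => (f : V → V)) DFunLike.coe_injective
  exact (Finite.isDomain_to_isField (ringOf V A)).toField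

theorem Setup.mul_comm' {A : Subgroup G} (hc : ∀ a ∈ A, ∀ b ∈ A, a * b = b * a) (x y : ringOf V A) :
    x * y = y * x := Subtype.ext (commutative_ringOf hc x.2 y.2)

theorem Setup.toRing_injective (A : Subgroup G) : Function.Injective (toRing (V := V) A) := fun _ _ h =>
  Subtype.ext (S.tau_injective (congrArg Subtype.val h))

theorem Setup.isCyclic {A : Subgroup G} (hA : A.Normal) (hc : ∀ a ∈ A, ∀ b ∈ A, a * b = b * a) : IsCyclic A := by
  letI := S.field hA hc
  exact isCyclic_of_injective_ringHom (toRing (V := V) A) (S.toRing_injective A)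

omit [Finite G] in
theorem Setup.finite_ring (A : Subgroup G) : Finite (ringOf V A) :=
  haveI : Finite (AddMonoid.End V) := Finite.of_injective (fun f => (f : V → V)) DFunLike.coe_injective
  inferInstance

/-- Orders: the field has `q ^ d` elements, `V` is a power of it, the subgroup is semiregular and the
conjugation image has order dividing `d`. -/
theorem Setup.field_card {A : Subgroup G} (hA : A.Normal) (hc : ∀ a ∈ A, ∀ b ∈ A, a * b = b * a) :
    ∃ d e : ℕ, 0 < d ∧ 0 < e ∧ Nat.card V = q ^ (d * e) ∧ Nat.card (ringOf V A) = q ^ d ∧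
      Nat.card A ∣ q ^ d - 1 ∧
      (∀ H : Subgroup G, H ≤ Subgroup.normalizer (A : Set G) → H ⊓ Subgroup.centralizer (A : Set G) = A →
        Nat.card H ∣ (q ^ d - 1) * d) ∧
      (e = 1 → ∀ v : V, v ≠ 0 → ∀ w, ∃ k ∈ ringOf V A, k v = w) := by
  letI := S.field hA hc
  haveI := S.finite_ring A
  haveI := Fact.mk S.prime
  haveI : Nontrivial V := let ⟨v, hv⟩ := S.nontriv; ⟨v, 0, hv⟩
  have hq0 : (q : ringOf V A) = 0 := by
    refine Subtype.ext (DFunLike.ext _ _ fun v => ?_)
    show ((q : ringOf V A) : AddMonoid.End V) v = 0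
    rw [Subring.coe_natCast, AddMonoid.End.natCast_apply]
    exact S.exp v
  haveI : CharP (ringOf V A) q := CharP.charP_iff_prime_eq_zero S.prime |>.2 hq0
  letI := ZMod.algebra (ringOf V A) q
  set d := Module.finrank (ZMod q) (ringOf V A)
  have hcard : Nat.card (ringOf V A) = q ^ d := by
    rw [Module.natCard_eq_pow_finrank (K := ZMod q), Nat.card_zmod]
  have hd : 0 < d := Module.finrank_pos
  letI : Module (ringOf V A) V := Module.compHom V (ringOf V A).subtype
  haveI : Module.Finite (ringOf V A) V := Module.Finite.of_finite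
  have hsmul : ∀ (k : ringOf V A) (v : V), k • v = (k : AddMonoid.End V) v := fun _ _ => rfl
  set e := Module.finrank (ringOf V A) V with he
  have he0 : 0 < e := Module.finrank_pos
  have hV : Nat.card V = q ^ (d * e) := by
    rw [Module.natCard_eq_pow_finrank (K := ringOf V A), hcard, ← pow_mul]
  let f : A →* (ringOf V A)ˣ := (toRing (V := V) A).toHomUnits
  have hf : Function.Injective f := fun a b h => S.toRing_injective A (congrArg Units.val h)
  have hAd : Nat.card A ∣ q ^ d - 1 := by
    have := Subgroup.card_dvd_of_injective f hf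
    rwa [Nat.card_units, hcard] at this
  refine ⟨d, e, hd, he0, hV, hcard, hAd, fun H hH hHA => ?_, fun he1 v hv w => ?_⟩
  · have hconj : ∀ (h : H) (k : AddMonoid.End V), k ∈ ringOf V A →
        tau V (h : G) * k * tau V (h : G)⁻¹ ∈ ringOf V A := fun h k hk => conj_mem hA h hk
    have hinv : ∀ g : G, tau V g⁻¹ * tau V g = 1 := fun g => by rw [← map_mul, inv_mul_cancel, map_one]
    let c : H → (ringOf V A →+* ringOf V A) := fun h =>
      { toFun := fun k => ⟨tau V (h : G) * k * tau V (h : G)⁻¹, hconj h k k.2⟩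
        map_one' := Subtype.ext (by
          show tau V (h : G) * 1 * tau V (h : G)⁻¹ = 1
          rw [mul_one, ← map_mul, mul_inv_cancel, map_one])
        map_mul' := fun x y => Subtype.ext (by
          show tau V (h : G) * (x * y : AddMonoid.End V) * tau V (h : G)⁻¹ =
            (tau V (h : G) * x * tau V (h : G)⁻¹) * (tau V (h : G) * y * tau V (h : G)⁻¹)
          simp only [mul_assoc]
          rw [← mul_assoc (tau V (h : G)⁻¹), hinv, one_mul])
        map_zero' := Subtype.ext (by
          show tau V (h : G) * 0 * tau V (h : G)⁻¹ = 0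
          rw [mul_zero, zero_mul])
        map_add' := fun x y => Subtype.ext (by
          show tau V (h : G) * (x + y : AddMonoid.End V) * tau V (h : G)⁻¹ = _
          rw [mul_add, add_mul]; rfl) }
    let ψ : H →* ((ringOf V A) →ₐ[ZMod q] (ringOf V A)) :=
      { toFun := fun h => { c h with
          commutes' := fun x => RingHom.congr_fun
            (Subsingleton.elim ((c h).comp (algebraMap (ZMod q) (ringOf V A))) (algebraMap (ZMod q) (ringOf V A))) x }
        map_one' := AlgHom.ext fun k => Subtype.ext (by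
          show tau V (1 : G) * k * tau V (1 : G)⁻¹ = k
          rw [inv_one, map_one, one_mul, mul_one])
        map_mul' := fun a b => AlgHom.ext fun k => Subtype.ext (by
          show tau V ((a : G) * b) * k * tau V ((a : G) * b)⁻¹ =
            tau V (a : G) * (tau V (b : G) * k * tau V (b : G)⁻¹) * tau V (a : G)⁻¹
          rw [mul_inv_rev, map_mul, map_mul]
          simp only [mul_assoc]) }
    let φ : H →* ((ringOf V A) →ₐ[ZMod q] (ringOf V A))ˣ := ψ.toHomUnits
    have hker : φ.ker = A.subgroupOf H := by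
      ext h
      rw [MonoidHom.mem_ker, Subgroup.mem_subgroupOf, Units.ext_iff, MonoidHom.coe_toHomUnits, Units.val_one]
      constructor
      · intro h1
        rw [← hHA]
        refine ⟨h.2, Subgroup.mem_centralizer_iff.2 fun a ha => S.tau_injective ?_⟩
        have h2 := congrArg (fun f : (ringOf V A) →ₐ[ZMod q] (ringOf V A) =>
          ((f ⟨tau V a, tau_mem ha⟩ : ringOf V A) : AddMonoid.End V)) h1
        replace h2 : tau V (h : G) * tau V a * tau V (h : G)⁻¹ = tau V a := h2
        rw [map_mul, map_mul]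
        conv_lhs => rw [← h2]
        rw [mul_assoc, hinv, mul_one]
      · intro h1
        refine AlgHom.ext fun k => Subtype.ext ?_
        show tau V (h : G) * k * tau V (h : G)⁻¹ = k
        rw [← commute_ringOf (fun a ha => hc a ha _ h1) k.2, mul_assoc, ← map_mul, mul_inv_cancel, map_one,
          mul_one]
    have hdiv : φ.ker.index ∣ d := by
      rw [Subgroup.index_ker]
      refine (Subgroup.card_subgroup_dvd_card _).trans (dvd_of_eq ?_)
      have e1 : Nat.card ((ringOf V A) →ₐ[ZMod q] (ringOf V A))ˣ = Nat.card ((ringOf V A) ≃ₐ[ZMod q] (ringOf V A)) :=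
        Nat.card_congr (AlgEquiv.algHomUnitsEquiv (ZMod q) (ringOf V A)).toEquiv
      rw [e1, IsGalois.card_aut_eq_finrank]
    rw [← φ.ker.card_mul_index, hker]
    refine Nat.mul_dvd_mul ?_ (by rw [← hker]; exact hdiv)
    have hAH : A ≤ H := hHA.ge.trans inf_le_left
    rwa [Nat.card_congr (Subgroup.subgroupOfEquivOfLe hAH).toEquiv]
  · obtain ⟨k, hk⟩ := exists_smul_eq_of_finrank_eq_one (K := ringOf V A) (V := V) he1 hv w
    exact ⟨k, k.2, hk⟩

end Cfsg.Agent.TransLin
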