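/-
A nilpotent normal subgroup has a self-centralising normal abelian subgroup or a normal subgroup of
extraspecial type, when all normal abelian subgroups are cyclic.
-/
import Mathlib.GroupTheory.Nilpotent
import Mathlib.Data.Nat.Choose.Dvd
import Mathlib.Order.Preorder.Finite
import Mathlib.GroupTheory.SpecificGroups.Cyclic
import Mathlib.GroupTheory.Perm.Cycle.Type

set_option autoImplicit false
set_option linter.style.haveILetI false

namespace Cfsg.Agent.TransLin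

open scoped commutatorElement
open Subgroup

universe u

variable {G : Type u} [Group G]

/-- The exponent allowed in a subgroup of extraspecial type. -/
def expo (p : ℕ) : ℕ := if p = 2 then 4 else p

/-- A normal nonabelian subgroup of exponent `p` (4 for `p = 2`) with central commutators of order `p`. -/
structure ES (p : ℕ) (R : Subgroup G) : Prop where
  prime : p.Prime
  normal : R.Normal
  nonab : ∃ r ∈ R, ∃ s ∈ R, ⁅r, s⁆ ≠ 1
  exp : ∀ r ∈ R, r ^ expo p = 1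
  cpow : ∀ r ∈ R, ∀ s ∈ R, ⁅r, s⁆ ^ p = 1
  ccomm : ∀ r ∈ R, ∀ s ∈ R, ∀ t ∈ R, t * ⁅r, s⁆ = ⁅r, s⁆ * t

theorem mul_pow_central {U : Type*} [Group U] (hc : ∀ x y z : U, Commute ⁅x, y⁆ z) (u v : U) (n : ℕ) :
    (u * v) ^ n = u ^ n * v ^ n * ⁅v, u⁆ ^ (n.choose 2) := by
  have hsw : ∀ k : ℕ, v ^ k * u = u * v ^ k * ⁅v, u⁆ ^ k := by
    intro k
    induction k with
    | zero => simp
    | succ k ih =>
      have h1 : v * u = u * v * ⁅v, u⁆ := by
        rw [← (hc v u (u * v)).eq, commutatorElement_def]; group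
      calc v ^ (k + 1) * u = v * (v ^ k * u) := by rw [pow_succ', mul_assoc]
        _ = v * u * v ^ k * ⁅v, u⁆ ^ k := by rw [ih]; simp only [mul_assoc]
        _ = u * (v * (⁅v, u⁆ * v ^ k)) * ⁅v, u⁆ ^ k := by rw [h1]; simp only [mul_assoc]
        _ = _ := by rw [(hc v u (v ^ k)).eq, pow_succ' v, pow_succ' ⁅v, u⁆]; simp only [mul_assoc]
  induction n with
  | zero => simp
  | succ n ih =>
    have c1 : ∀ w, Commute (⁅v, u⁆ ^ n.choose 2) w := fun w => (hc v u w).pow_left _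
    have c2 : ∀ w, Commute (⁅v, u⁆ ^ n) w := fun w => (hc v u w).pow_left _
    calc (u * v) ^ (n + 1) = u ^ n * v ^ n * ⁅v, u⁆ ^ n.choose 2 * (u * v) := by rw [pow_succ, ih]
      _ = u ^ n * (v ^ n * u) * v * ⁅v, u⁆ ^ n.choose 2 := by
        rw [mul_assoc (u ^ n * v ^ n), (c1 (u * v)).eq]; simp only [mul_assoc]
      _ = u ^ (n + 1) * v ^ (n + 1) * (⁅v, u⁆ ^ n * ⁅v, u⁆ ^ n.choose 2) := by
        rw [hsw, pow_succ, pow_succ]; simp only [mul_assoc]; rw [(c2 v).left_comm]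
      _ = _ := by rw [← pow_add, Nat.choose_succ_succ n 1, Nat.choose_one_right]

theorem comm_pow_central {U : Type*} [Group U] (hc : ∀ x y z : U, Commute ⁅x, y⁆ z) (u v : U) (n : ℕ) :
    ⁅u ^ n, v⁆ = ⁅u, v⁆ ^ n := by
  induction n with
  | zero => simp
  | succ n ih =>
    rw [pow_succ, show ⁅u ^ n * u, v⁆ = u ^ n * ⁅u, v⁆ * (u ^ n)⁻¹ * ⁅u ^ n, v⁆ by
      simp only [commutatorElement_def]; group, ih, ← (hc u v (u ^ n)).eq, mul_inv_cancel_right, ← pow_succ']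

theorem expo_facts {p : ℕ} (hp : p.Prime) : p ∣ expo p ∧ p ∣ (expo p).choose 2 := by
  unfold expo
  split_ifs with h
  · subst h; decide
  · exact ⟨dvd_rfl, Nat.Prime.dvd_choose_self hp (by norm_num) (lt_of_le_of_ne hp.two_le (Ne.symm h))⟩

theorem exists_self_centralizing_or_es [Finite G]
    (hcyc : ∀ A : Subgroup G, A.Normal → (∀ a ∈ A, ∀ b ∈ A, a * b = b * a) → IsCyclic A)
    {N : Subgroup G} (hN : N.Normal) (hnil : Group.IsNilpotent N) :
    (∃ A : Subgroup G, A.Normal ∧ (∀ a ∈ A, ∀ b ∈ A, a * b = b * a) ∧ A ≤ N ∧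
        ∀ x ∈ N, (∀ a ∈ A, a * x = x * a) → x ∈ A) ∨
      ∃ p, ∃ R : Subgroup G, ES p R ∧ R ≤ N := by
  classical
  obtain ⟨A, -, ⟨hAn, hAc, hAN⟩, hmax⟩ := Finite.exists_le_maximal
    (p := fun K : Subgroup G => K.Normal ∧ (∀ a ∈ K, ∀ b ∈ K, a * b = b * a) ∧ K ≤ N)
    (a := ⊥) ⟨inferInstance, fun a ha b _ => by rw [mem_bot] at ha; simp [ha], bot_le⟩
  have big : ∀ K : Subgroup G, K.Normal → (∀ a ∈ K, ∀ b ∈ K, a * b = b * a) →
      (∀ k ∈ K, ∀ a ∈ A, a * k = k * a) → K ≤ N → K ≤ A := by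
    intro K hK hKc hKA hKN
    refine le_trans le_sup_right (hmax (y := A ⊔ K) ⟨inferInstance, ?_, sup_le hAN hKN⟩ le_sup_left)
    intro x hx y hy
    obtain ⟨a, ha, k, hk, rfl⟩ := mem_sup_of_normal_right.1 hx
    obtain ⟨b, hb, l, hl, rfl⟩ := mem_sup_of_normal_right.1 hy
    calc a * k * (b * l) = a * (k * b) * l := by simp only [mul_assoc]
      _ = (a * b) * (k * l) := by rw [← hKA k hk b hb]; simp only [mul_assoc]
      _ = (b * a) * (l * k) := by rw [hAc a ha b hb, hKc k hk l hl]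
      _ = b * (a * l) * k := by simp only [mul_assoc]
      _ = _ := by rw [hKA l hl a ha]; simp only [mul_assoc]
  set C : Subgroup G := N ⊓ centralizer (A : Set G) with hCdef
  by_cases hCA : C ≤ A
  · exact Or.inl ⟨A, hAn, hAc, hAN, fun x hx h => hCA ⟨hx, mem_centralizer_iff.2 fun a ha => h a ha⟩⟩
  refine Or.inr ?_
  haveI := hAn
  haveI : (A.subgroupOf C).Normal := inferInstance
  haveI : Group.IsNilpotent C :=
    haveI := hnil
    Group.nilpotent_of_mulEquiv (Subgroup.subgroupOfEquivOfLe (inf_le_left : C ≤ N))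
  set π := QuotientGroup.mk' (A.subgroupOf C) with hπ
  have hπ1 : ∀ c : C, π c = 1 ↔ (c : G) ∈ A := fun c => by
    rw [hπ, QuotientGroup.mk'_apply, QuotientGroup.eq_one_iff, mem_subgroupOf]
  haveI : Nontrivial (C ⧸ A.subgroupOf C) := by
    obtain ⟨c, hc, hcA⟩ := SetLike.not_le_iff_exists.1 hCA
    exact ⟨π ⟨c, hc⟩, 1, fun h => hcA ((hπ1 _).1 h)⟩
  haveI : Nontrivial (center (C ⧸ A.subgroupOf C)) :=
    (Subgroup.nontrivial_iff_ne_bot _).2 (Group.IsNilpotent.center_ne_bot _)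
  obtain ⟨p, hp, hpd⟩ := Nat.exists_prime_and_dvd (Finite.one_lt_card (α := center (C ⧸ A.subgroupOf C))).ne'
  haveI := Fact.mk hp
  obtain ⟨x₀, hx₀⟩ := exists_prime_orderOf_dvd_card' p hpd
  let Ub : Subgroup (C ⧸ A.subgroupOf C) :=
    { carrier := {x | x ∈ center (C ⧸ A.subgroupOf C) ∧ x ^ p = 1}
      one_mem' := ⟨one_mem _, one_pow _⟩
      mul_mem' := fun {a b} ha hb => ⟨mul_mem ha.1 hb.1, by
        rw [Commute.mul_pow (show Commute a b from (mem_center_iff.1 ha.1 b).symm), ha.2, hb.2, one_mul]⟩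
      inv_mem' := fun {a} ha => ⟨inv_mem ha.1, by rw [inv_pow, ha.2, inv_one]⟩ }
  set U : Subgroup G := (Ub.comap π).map C.subtype with hUdef
  have hU : ∀ u, u ∈ U ↔ u ∈ C ∧ (∀ c ∈ C, ⁅u, c⁆ ∈ A) ∧ u ^ p ∈ A := by
    intro u
    constructor
    · rintro ⟨u, ⟨hu1, hu2⟩, rfl⟩
      refine ⟨u.2, fun c hc => ?_, ?_⟩
      · have h := (hπ1 ⁅u, ⟨c, hc⟩⁆).1 (by
          rw [map_commutatorElement, commutatorElement_eq_one_iff_mul_comm]
          exact (mem_center_iff.1 hu1 _).symm)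
        exact h
      · exact (hπ1 (u ^ p)).1 (by rw [map_pow, hu2])
    · rintro ⟨hu, hc, hp'⟩
      refine ⟨⟨u, hu⟩, ⟨mem_center_iff.2 fun x => ?_, ?_⟩, rfl⟩
      · obtain ⟨c, rfl⟩ := QuotientGroup.mk'_surjective (A.subgroupOf C) x
        symm
        rw [← hπ, ← commutatorElement_eq_one_iff_mul_comm, ← map_commutatorElement, hπ1]
        exact hc _ c.2
      · rw [← map_pow, hπ1]; exact hp'
  have hCn : C.Normal := inferInstance
  have hUn : U.Normal := ⟨fun u hu g => by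
    obtain ⟨h1, h2, h3⟩ := (hU u).1 hu
    refine (hU _).2 ⟨hCn.conj_mem u h1 g, fun c hc => ?_, ?_⟩
    · have := hAn.conj_mem _ (h2 (g⁻¹ * c * g) (by
        have := hCn.conj_mem c hc g⁻¹; rwa [inv_inv] at this)) g
      convert this using 1
      simp only [commutatorElement_def]; group
    · rw [conj_pow]; exact hAn.conj_mem _ h3 g⟩
  have hUC : ∀ u ∈ U, u ∈ C := fun u hu => ((hU u).1 hu).1
  have hUN : U ≤ N := fun u hu => (hUC u hu).1
  have hUA : ∀ u ∈ U, ∀ a ∈ A, a * u = u * a := fun u hu a ha => mem_centralizer_iff.1 (hUC u hu).2 a ha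
  have hUnA : ¬ U ≤ A := by
    intro hle
    obtain ⟨c, hc⟩ := QuotientGroup.mk'_surjective (A.subgroupOf C) (x₀ : C ⧸ A.subgroupOf C)
    have hcU : (c : G) ∈ U := ⟨c, ⟨by rw [hπ, hc]; exact x₀.2, by
      rw [hπ, hc, ← SubmonoidClass.coe_pow, ← hx₀, pow_orderOf_eq_one, OneMemClass.coe_one]⟩, rfl⟩
    have h1 := (hπ1 c).2 (hle hcU)
    rw [hπ, hc] at h1
    have h2 : x₀ = 1 := Subtype.ext h1
    rw [h2, orderOf_one] at hx₀
    exact hp.one_lt.ne hx₀
  have hcen : ∀ x y z : U, Commute ⁅x, y⁆ z := fun x y z => Subtype.ext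
    (hUA z z.2 _ (((hU x).1 x.2).2.1 y (hUC y y.2)))
  have hcp : ∀ x y : U, ⁅x, y⁆ ^ p = 1 := fun x y => by
    rw [← comm_pow_central hcen, commutatorElement_eq_one_iff_mul_comm]
    exact Subtype.ext (hUA y y.2 _ ((hU x).1 x.2).2.2)
  obtain ⟨hpe, hpe2⟩ := expo_facts hp
  have hmul : ∀ x y : U, (x * y) ^ expo p = x ^ expo p * y ^ expo p := fun x y => by
    obtain ⟨c, hc⟩ := hpe2
    rw [mul_pow_central hcen, hc, pow_mul, hcp, one_pow, mul_one]
  let f : U →* A :=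
    { toFun := fun x => ⟨(x : G) ^ expo p, by
        obtain ⟨c, hc⟩ := hpe
        rw [hc, pow_mul]; exact A.pow_mem ((hU x).1 x.2).2.2 c⟩
      map_one' := Subtype.ext (one_pow _)
      map_mul' := fun x y => Subtype.ext (by
        have := congrArg Subtype.val (hmul x y)
        simpa using this) }
  have hfk : ∀ x : U, x ∈ f.ker ↔ (x : G) ^ expo p = 1 := fun x => by
    rw [MonoidHom.mem_ker, Subtype.ext_iff]; rfl
  set R : Subgroup G := f.ker.map U.subtype with hRdef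
  have hR : ∀ r, r ∈ R ↔ r ∈ U ∧ r ^ expo p = 1 := fun r => by
    constructor
    · rintro ⟨x, hx, rfl⟩; exact ⟨x.2, (hfk x).1 hx⟩
    · rintro ⟨h1, h2⟩; exact ⟨⟨r, h1⟩, (hfk _).2 h2, rfl⟩
  have hRn : R.Normal := ⟨fun r hr g => by
    rw [hR] at hr ⊢
    exact ⟨hUn.conj_mem r hr.1 g, by rw [conj_pow, hr.2, mul_one, mul_inv_cancel]⟩⟩
  refine ⟨p, R, ⟨hp, hRn, ?_, fun r hr => ((hR r).1 hr).2, fun r hr s hs => ?_, fun r hr s hs t ht => ?_⟩,
    fun r hr => hUN ((hR r).1 hr).1⟩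
  · by_contra! hab
    have hRA : R ≤ A := big R hRn (fun a ha b hb => commutatorElement_eq_one_iff_mul_comm.1 (hab a ha b hb))
      (fun r hr => hUA r ((hR r).1 hr).1) (fun r hr => hUN ((hR r).1 hr).1)
    haveI := hcyc A hAn hAc
    have hUab : ∀ x y : U, x * y = y * x := commutative_of_cyclic_center_quotient f fun x hx => by
      rw [mem_center_iff]
      intro y
      exact Subtype.ext (hUA y y.2 _ (hRA ⟨x, hx, rfl⟩)).symm
    exact hUnA (big U hUn (fun a ha b hb => congrArg Subtype.val (hUab ⟨a, ha⟩ ⟨b, hb⟩)) hUA hUN)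
  · exact congrArg Subtype.val (hcp ⟨r, ((hR r).1 hr).1⟩ ⟨s, ((hR s).1 hs).1⟩)
  · exact congrArg Subtype.val (hcen ⟨r, ((hR r).1 hr).1⟩ ⟨s, ((hR s).1 hs).1⟩ ⟨t, ((hR t).1 ht).1⟩).symm.eq

end Cfsg.Agent.TransLin
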