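/-
Counting fixed points of a normal subgroup of extraspecial type in a transitive linear group.
-/
import Cfsg.Agent.Lib.Solvable.TransLinear.Field
import Cfsg.Agent.Lib.Solvable.TransLinear.Split
import Mathlib.LinearAlgebra.Dimension.Constructions
import Mathlib.RingTheory.RootsOfUnity.PrimitiveRoots
import Mathlib.Algebra.CharP.Lemmas

set_option autoImplicit false
set_option linter.style.haveILetI false
set_option linter.unusedSectionVars false

namespace Cfsg.Agent.TransLin

open scoped commutatorElement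
open Subgroup

universe u v

variable {G : Type u} {V : Type v} [Group G] [AddCommGroup V] [DistribMulAction G V] {q : ℕ}

/-- The centre of a subgroup, inside the group. -/
abbrev zOf (R : Subgroup G) : Subgroup G := R ⊓ centralizer (R : Set G)

/-- The vectors fixed by a subgroup. -/
def fix (V : Type v) [AddCommGroup V] [DistribMulAction G V] (W : Subgroup G) : AddSubgroup V where
  carrier := {v | ∀ w ∈ W, w • v = v}
  zero_mem' := fun w _ => smul_zero w
  add_mem' := fun {a b} ha hb w hw => by rw [smul_add, ha w hw, hb w hw]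
  neg_mem' := fun {a} ha w hw => by rw [smul_neg, ha w hw]

theorem mem_fix {W : Subgroup G} {v : V} : v ∈ fix V W ↔ ∀ w ∈ W, w • v = v := Iff.rfl

theorem mem_fix_zpowers {x : G} {v : V} : v ∈ fix V (zpowers x) ↔ x • v = v := by
  refine ⟨fun h => h x (mem_zpowers x), fun h w hw => ?_⟩
  exact (zpowers_le.2 (show x ∈ MulAction.stabilizer G v from h)) hw

theorem card_le_mul {H W : Subgroup G} [Finite G] (k : ℕ) (c : Fin k → G)
    (h : ∀ x ∈ H, ∃ i, ∃ w ∈ W, x = c i * w) : Nat.card H ≤ k * Nat.card W := by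
  classical
  choose i w hw he using h
  have := Nat.card_le_card_of_injective (fun x : H => ((i x x.2, (⟨w x x.2, hw x x.2⟩ : W)) : Fin k × W))
    fun a b hab => Subtype.ext (by
      have h1 : i a a.2 = i b b.2 := congrArg Prod.fst hab
      have h2 : w a a.2 = w b b.2 := congrArg Subtype.val (congrArg Prod.snd hab)
      rw [he a a.2, he b b.2, h1, h2])
  rwa [Nat.card_prod, Nat.card_fin] at this

section grp
variable {p : ℕ} {R : Subgroup G} (hR : ES p R)
include hR

theorem ES.z_normal : (zOf R).Normal := by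
  haveI := hR.normal
  exact inferInstance

theorem ES.z_comm : ∀ a ∈ zOf R, ∀ b ∈ zOf R, a * b = b * a := fun _ ha _ hb =>
  mem_centralizer_iff.1 hb.2 _ ha.1

theorem ES.comm_mem {r s : G} (hr : r ∈ R) (hs : s ∈ R) : ⁅r, s⁆ ∈ zOf R :=
  ⟨by rw [commutatorElement_def]; exact R.mul_mem (R.mul_mem (R.mul_mem hr hs) (R.inv_mem hr)) (R.inv_mem hs),
    mem_centralizer_iff.2 fun t ht => hR.ccomm r hr s hs t ht⟩

theorem ES.comm_mul_left {a b c : G} (ha : a ∈ R) (hb : b ∈ R) (hc : c ∈ R) :
    ⁅a * b, c⁆ = ⁅a, c⁆ * ⁅b, c⁆ := by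
  rw [show ⁅a * b, c⁆ = a * ⁅b, c⁆ * a⁻¹ * ⁅a, c⁆ by simp only [commutatorElement_def]; group,
    hR.ccomm b hb c hc a ha, mul_inv_cancel_right]
  exact (mem_centralizer_iff.1 (hR.comm_mem hb hc).2 _ (hR.comm_mem ha hc).1).symm

theorem ES.comm_mul_right {a b c : G} (ha : a ∈ R) (hb : b ∈ R) (hc : c ∈ R) :
    ⁅a, b * c⁆ = ⁅a, b⁆ * ⁅a, c⁆ := by
  rw [show ⁅a, b * c⁆ = ⁅a, b⁆ * (b * ⁅a, c⁆ * b⁻¹) by simp only [commutatorElement_def]; group,
    hR.ccomm a ha c hc b hb, mul_inv_cancel_right]

theorem ES.pow_mem_z {r : G} (hr : r ∈ R) : r ^ p ∈ zOf R := by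
  refine ⟨R.pow_mem hr _, mem_centralizer_iff.2 fun t ht => ?_⟩
  have : ∀ n : ℕ, ⁅r ^ n, t⁆ = ⁅r, t⁆ ^ n := by
    intro n
    induction n with
    | zero => simp
    | succ n ih => rw [pow_succ, hR.comm_mul_left (R.pow_mem hr _) hr ht, ih, ← pow_succ]
  exact (commutatorElement_eq_one_iff_mul_comm.1 (by rw [this, hR.cpow r hr t ht])).symm

end grp

/-- The commutator pairing as a character. -/
noncomputable def chi (V : Type v) [AddCommGroup V] [DistribMulAction G V] {p : ℕ} {R : Subgroup G} (hR : ES p R)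
    {W : Subgroup G} (hW : W ≤ R) {r : G} (hr : r ∈ R) : W →* ringOf V (zOf R) :=
  (toRing (V := V) (zOf R)).comp
    (MonoidHom.mk' (fun w => (⟨⁅(w : G), r⁆, ES.comm_mem hR (hW w.2) hr⟩ : zOf R)) fun a b =>
      Subtype.ext (ES.comm_mul_left hR (hW a.2) (hW b.2) hr))

theorem sum_end_apply {ι : Type*} (s : Finset ι) (f : ι → AddMonoid.End V) (v : V) :
    (∑ i ∈ s, f i) v = ∑ i ∈ s, f i v := by
  classical
  induction s using Finset.induction_on with
  | empty => rfl
  | @insert a s ha ih => rw [Finset.sum_insert ha, Finset.sum_insert ha, ← ih]; rfl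

variable (S : Setup G V q) [Finite G] [Finite V]
include S

theorem Setup.charP {A : Subgroup G} : CharP (ringOf V A) q := by
  haveI : Nontrivial (ringOf V A) := ⟨0, 1, fun h => by
    obtain ⟨v, hv⟩ := S.nontriv
    exact hv (DFunLike.congr_fun (congrArg Subtype.val h) v).symm⟩
  refine (CharP.charP_iff_prime_eq_zero S.prime).2 (Subtype.ext (DFunLike.ext _ _ fun v => ?_))
  show ((q : ringOf V A) : AddMonoid.End V) v = 0
  rw [Subring.coe_natCast, AddMonoid.End.natCast_apply]
  exact S.exp v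

theorem Setup.nsmul_ne_zero {m : ℕ} (hm : ¬ q ∣ m) {v : V} (hv : v ≠ 0) : m • v ≠ 0 := fun h => hm (by
  have h1 : addOrderOf v = q := haveI := Fact.mk S.prime; addOrderOf_eq_prime (S.exp v) hv
  rw [← h1]; exact addOrderOf_dvd_of_nsmul_eq_zero h)

variable {p : ℕ} {R : Subgroup G} (hR : ES p R)
include hR

theorem ES.z_semiregular {a : G} (ha : a ∈ zOf R) {v : V} (hv : v ≠ 0) (h : a • v = v) : a = 1 :=
  S.smul_eq_self hR.z_normal hR.z_comm ha hv h

/-- The distinguished central element of order `p`. -/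
theorem ES.exists_root : ∃ z ∈ zOf R, orderOf z = p ∧ ∀ x ∈ zOf R, x ^ p = 1 → ∃ i < p, x = z ^ i := by
  classical
  haveI := Fact.mk hR.prime
  obtain ⟨r, hr, s, hs, hrs⟩ := hR.nonab
  have hz := hR.comm_mem hr hs
  have ho : orderOf ⁅r, s⁆ = p := orderOf_eq_prime (hR.cpow r hr s hs) hrs
  refine ⟨_, hz, ho, fun x hx hxp => ?_⟩
  letI := S.field hR.z_normal hR.z_comm
  haveI : NeZero p := ⟨hR.prime.ne_zero⟩
  let f := toRing (V := V) (zOf R)
  have hω : IsPrimitiveRoot (f ⟨_, hz⟩) p := by
    rw [← ho, show orderOf ⁅r, s⁆ = orderOf (f ⟨_, hz⟩) by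
      rw [orderOf_injective f (S.toRing_injective _), Subgroup.orderOf_mk]]
    exact IsPrimitiveRoot.orderOf _
  obtain ⟨i, hi, he⟩ := hω.eq_pow_of_pow_eq_one (ξ := f ⟨x, hx⟩)
    (by rw [← map_pow, show (⟨x, hx⟩ : zOf R) ^ p = 1 from Subtype.ext (by simpa using hxp), map_one])
  refine ⟨i, hi, ?_⟩
  rw [← map_pow] at he
  exact (congrArg Subtype.val (S.toRing_injective _ he)).symm

theorem ES.prime_ne : p ≠ q := by
  classical
  intro hpq
  subst hpq
  obtain ⟨z, hz, ho, -⟩ := hR.exists_root S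
  letI := S.field hR.z_normal hR.z_comm
  haveI : CharP (ringOf V (zOf R)) p := S.charP
  haveI := Fact.mk hR.prime
  let f := toRing (V := V) (zOf R)
  have h1 : (f ⟨z, hz⟩ - 1) ^ p = 0 := by
    rw [sub_pow_char, one_pow, sub_eq_zero, ← map_pow,
      show (⟨z, hz⟩ : zOf R) ^ p = 1 from Subtype.ext (by simpa [← ho] using pow_orderOf_eq_one z), map_one]
  have h2 := S.toRing_injective (zOf R) ((sub_eq_zero.1 (pow_eq_zero_iff hR.prime.ne_zero |>.1 h1)).trans (map_one f).symm)
  have : z = 1 := congrArg Subtype.val h2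
  rw [this, orderOf_one] at ho
  exact hR.prime.ne_one ho.symm

omit S [Finite V] in
theorem ES.isPGroup : IsPGroup p R := fun r => by
  have h := hR.exp r r.2
  unfold expo at h
  split_ifs at h with h2
  · exact ⟨2, Subtype.ext (by subst h2; simpa using h)⟩
  · exact ⟨1, Subtype.ext (by simpa using h)⟩

omit [Finite G] [Finite V] in
/-- A stabiliser in `R` meets the centre trivially, is abelian and has exponent `p`. -/
theorem ES.stab_inf {v : V} (hv : v ≠ 0) [Finite G] [Finite V] {x : G} (hx : x ∈ R) (hxv : x • v = v) :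
    x ^ p = 1 ∧ ∀ y ∈ R, y • v = v → x * y = y * x := by
  refine ⟨hR.z_semiregular S (hR.pow_mem_z hx) hv ?_, fun y hy hyv => commutatorElement_eq_one_iff_mul_comm.1
    (hR.z_semiregular S (hR.comm_mem hx hy) hv ?_)⟩
  · exact (MulAction.stabilizer G v).pow_mem hxv p
  · have h1 : x⁻¹ • v = v := inv_smul_eq_iff.2 hxv.symm
    have h2 : y⁻¹ • v = v := inv_smul_eq_iff.2 hyv.symm
    rw [commutatorElement_def, mul_smul, mul_smul, mul_smul, h2, h1, hyv, hxv]

theorem ES.card_stab {v w : V} (hv : v ≠ 0) (hw : w ≠ 0) :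
    Nat.card (R ⊓ MulAction.stabilizer G v : Subgroup G) = Nat.card (R ⊓ MulAction.stabilizer G w : Subgroup G) := by
  obtain ⟨g, rfl⟩ := S.trans v w hv hw
  refine Nat.card_congr
    { toFun := fun x => ⟨g * x * g⁻¹, hR.normal.conj_mem _ x.2.1 g, by
        show (g * x * g⁻¹) • g • v = g • v
        rw [← mul_smul, inv_mul_cancel_right, mul_smul, show (x : G) • v = v from x.2.2]⟩
      invFun := fun x => ⟨g⁻¹ * x * g, by simpa using hR.normal.conj_mem _ x.2.1 g⁻¹, by
        show (g⁻¹ * x * g) • v = v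
        rw [mul_smul, mul_smul, show (x : G) • g • v = g • v from x.2.2, inv_smul_smul]⟩
      left_inv := fun x => Subtype.ext (by simp [mul_assoc])
      right_inv := fun x => Subtype.ext (by simp [mul_assoc]) }

/-- An element of order `p` centralising a stabiliser lies in it up to the centre. -/
theorem ES.almost {z : G} (hz : z ∈ zOf R) (ho : orderOf z = p) {v : V} (hv : v ≠ 0) {x : G} (hx : x ∈ R)
    (hxc : ∀ w ∈ R ⊓ MulAction.stabilizer G v, w * x = x * w) (hxp : x ^ p = 1) :
    ∃ i < p, z ^ i * x ∈ R ⊓ MulAction.stabilizer G v := by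
  classical
  letI := S.field hR.z_normal hR.z_comm
  let f := toRing (V := V) (zOf R)
  have hzx : Commute z x := (mem_centralizer_iff.1 hz.2 x hx).symm
  have hzp : z ^ p = 1 := ho ▸ pow_orderOf_eq_one z
  have hω : IsPrimitiveRoot (f ⟨z, hz⟩) p := by
    rw [← ho, show orderOf z = orderOf (f ⟨z, hz⟩) by
      rw [orderOf_injective f (S.toRing_injective _), Subgroup.orderOf_mk]]
    exact IsPrimitiveRoot.orderOf _
  have key : ∑ i ∈ Finset.range p, ∑ j ∈ Finset.range p, (z ^ i * x) ^ j • v = p • v := by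
    rw [Finset.sum_comm]
    have hj : ∀ j ∈ Finset.range p, ∑ i ∈ Finset.range p, (z ^ i * x) ^ j • v =
        if j = 0 then p • v else 0 := by
      intro j hj
      split_ifs with h0
      · subst h0; simp
      have hg : ∑ i ∈ Finset.range p, (f ⟨z, hz⟩ ^ j) ^ i = 0 := by
        refine (hω.pow_of_coprime j ?_).geom_sum_eq_zero hR.prime.one_lt
        exact ((hR.prime.coprime_iff_not_dvd).2 (fun h => h0 (Nat.eq_zero_of_dvd_of_lt h (Finset.mem_range.1 hj)))).symm
      have := DFunLike.congr_fun (congrArg Subtype.val hg) (x ^ j • v)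
      rw [AddSubmonoidClass.coe_finset_sum, sum_end_apply] at this
      refine Eq.trans ?_ this
      refine Finset.sum_congr rfl fun i _ => ?_
      rw [← pow_mul, ← map_pow, (hzx.pow_left i).mul_pow, ← pow_mul, mul_smul, mul_comm i j]
      rfl
    rw [Finset.sum_congr rfl hj, Finset.sum_ite_eq' (Finset.range p) 0 (fun _ => p • v),
      if_pos (Finset.mem_range.2 hR.prime.pos)]
  obtain ⟨i, hi, hne⟩ := Finset.exists_ne_zero_of_sum_ne_zero
    (key ▸ S.nsmul_ne_zero (fun h => hR.prime_ne S ((Nat.prime_dvd_prime_iff_eq S.prime hR.prime).1 h).symm) hv :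
      ∑ i ∈ Finset.range p, ∑ j ∈ Finset.range p, (z ^ i * x) ^ j • v ≠ 0)
  set u := ∑ j ∈ Finset.range p, (z ^ i * x) ^ j • v with hu
  set y := z ^ i * x
  have hy : y ∈ R := R.mul_mem (R.pow_mem hz.1 _) hx
  have hyu : y • u = u := by
    have hy1 : y ^ p = 1 := by
      rw [(hzx.pow_left i).mul_pow, hxp, mul_one, pow_right_comm, hzp, one_pow]
    have e1 : ∑ j ∈ Finset.range p, y ^ (j + 1) • v + v = u + v := by
      have := Finset.sum_range_succ' (fun j => y ^ j • v) p
      rw [Finset.sum_range_succ, hy1, pow_zero, one_smul] at this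
      exact this.symm
    rw [hu, Finset.smul_sum]
    simp only [← mul_smul, ← pow_succ']
    exact add_right_cancel e1
  have hWu : R ⊓ MulAction.stabilizer G v ≤ R ⊓ MulAction.stabilizer G u := by
    refine fun w hw => ⟨hw.1, ?_⟩
    show w • u = u
    rw [hu, Finset.smul_sum]
    refine Finset.sum_congr rfl fun j _ => ?_
    have hc : Commute w y := by
      refine Commute.mul_right (Commute.pow_right ?_ i) (hxc w hw)
      exact mem_centralizer_iff.1 hz.2 w hw.1
    rw [← mul_smul, (hc.pow_right j).eq, mul_smul, show w • v = v from hw.2]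
  have := eq_of_le_of_card_ge hWu (hR.card_stab S hne hv).le
  exact ⟨i, Finset.mem_range.1 hi, by rw [this]; exact ⟨hy, hyu⟩⟩

/-- A subgroup meeting the centre trivially has as many cosets of its centraliser as elements, and the
translates of its fixed points by these cosets are independent. -/
theorem ES.index_eq {W : Subgroup G} (hW : W ≤ R) (hWc : ∀ a ∈ W, ∀ b ∈ W, a * b = b * a) (hWz : W ⊓ zOf R = ⊥) :
    Nat.card R = Nat.card W * Nat.card (R ⊓ centralizer (W : Set G) : Subgroup G) ∧
      Nat.card (fix V W) ^ Nat.card W ≤ Nat.card V := by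
  classical
  letI := S.field hR.z_normal hR.z_comm
  haveI := S.finite_ring (zOf R)
  haveI := Fintype.ofFinite W
  haveI := Fintype.ofFinite G
  set L' : Subgroup R := (R ⊓ centralizer (W : Set G)).subgroupOf R with hL'
  haveI := Fintype.ofFinite (R ⧸ L')
  let χ : R → W →* ringOf V (zOf R) := fun r => chi V hR hW r.2
  have hχ : ∀ (r : R) (w : W), χ r w = toRing (V := V) (zOf R) ⟨⁅(w : G), r⁆, hR.comm_mem (hW w.2) r.2⟩ :=
    fun r w => rfl
  have hinj : ∀ r s : R, χ r = χ s ↔ (r : R ⧸ L') = s := by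
    intro r s
    have e : ∀ w : W, ⁅(w : G), (s : G)⁆ = ⁅(w : G), (r : G)⁆ * ⁅(w : G), (r : G)⁻¹ * s⁆ := fun w => by
      rw [← hR.comm_mul_right (hW w.2) r.2 (R.mul_mem (R.inv_mem r.2) s.2), mul_inv_cancel_left]
    rw [QuotientGroup.eq, hL', mem_subgroupOf]
    constructor
    · intro h
      refine ⟨R.mul_mem (R.inv_mem r.2) s.2, mem_centralizer_iff.2 fun w hw => ?_⟩
      have h1 := congrArg Subtype.val (S.toRing_injective _ (DFunLike.congr_fun h ⟨w, hw⟩ : _))
      rw [← commutatorElement_eq_one_iff_mul_comm]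
      have h2 := e ⟨w, hw⟩
      rw [show ⁅(w : G), (s : G)⁆ = ⁅w, (r : G)⁆ from h1.symm] at h2
      exact mul_eq_left.1 h2.symm
    · intro h
      refine MonoidHom.ext fun w => ?_
      rw [hχ, hχ]
      congr 1
      refine Subtype.ext ?_
      show ⁅(w : G), (r : G)⁆ = ⁅(w : G), (s : G)⁆
      have h1 : ⁅(w : G), (r : G)⁻¹ * s⁆ = 1 :=
        commutatorElement_eq_one_iff_mul_comm.2 (mem_centralizer_iff.1 h.2 w w.2)
      rw [e w, h1, mul_one]
  have hWle : Fintype.card W ≤ Fintype.card (R ⧸ L') := by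
    let ψ : W → R →* ringOf V (zOf R) := fun w => (toRing (V := V) (zOf R)).comp
      (MonoidHom.mk' (fun r => (⟨⁅(w : G), (r : G)⁆, hR.comm_mem (hW w.2) r.2⟩ : zOf R)) fun a b =>
        Subtype.ext (hR.comm_mul_right (hW w.2) a.2 b.2))
    have hψ : Function.Injective ψ := by
      intro a b h
      have : ∀ r : R, ⁅((a * b⁻¹ : W) : G), (r : G)⁆ = 1 := fun r => by
        have h1 : χ r a = χ r b := DFunLike.congr_fun h r
        have h2 : χ r (a * b⁻¹) = 1 := by rw [map_mul, h1, ← map_mul, mul_inv_cancel, map_one]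
        exact congrArg Subtype.val (S.toRing_injective _ (h2.trans (map_one _).symm))
      have h3 : ((a * b⁻¹ : W) : G) ∈ W ⊓ zOf R := ⟨(a * b⁻¹).2, hW (a * b⁻¹).2,
        mem_centralizer_iff.2 fun r hr => (commutatorElement_eq_one_iff_mul_comm.1 (this ⟨r, hr⟩)).symm⟩
      rw [hWz, mem_bot] at h3
      exact mul_inv_eq_one.1 (Subtype.ext h3)
    let φ : W → (R ⧸ L' → ringOf V (zOf R)) := fun w c => ψ w c.out
    have hφ : (LinearMap.funLeft (ringOf V (zOf R)) (ringOf V (zOf R)) (QuotientGroup.mk : R → R ⧸ L')) ∘ φ =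
        fun w => (ψ w : R → ringOf V (zOf R)) := by
      funext w r
      exact DFunLike.congr_fun ((hinj _ r).2 (Quotient.out_eq _)) w
    have hli : LinearIndependent (ringOf V (zOf R)) φ := LinearIndependent.of_comp _
      (by rw [hφ]; exact (linearIndependent_monoidHom R (ringOf V (zOf R))).comp ψ hψ)
    simpa using hli.fintype_card_le_finrank
  have hle : Fintype.card (R ⧸ L') ≤ Fintype.card W := by
    have hi : Function.Injective fun c : R ⧸ L' => χ c.out := fun a b h => by
      rw [← Quotient.out_eq a, ← Quotient.out_eq b]; exact (hinj _ _).1 h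
    simpa using ((linearIndependent_monoidHom W (ringOf V (zOf R))).comp _ hi).fintype_card_le_finrank
  have hcard : Nat.card (R ⧸ L') = Nat.card W := by
    rw [Nat.card_eq_fintype_card, Nat.card_eq_fintype_card]; omega
  refine ⟨?_, ?_⟩
  · rw [← Subgroup.card_mul_index L', Subgroup.index, hcard, mul_comm,
      Nat.card_congr (Subgroup.subgroupOfEquivOfLe (inf_le_left : R ⊓ centralizer (W : Set G) ≤ R)).toEquiv]
  rw [← hcard, ← Nat.card_fun]
  refine Nat.card_le_card_of_injective (fun f => ∑ c : R ⧸ L', ((c.out : R) : G) • (f c : V)) fun f g h => ?_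
  funext d
  refine Subtype.ext ?_
  have hq : ¬ q ∣ Nat.card W := fun hd => by
    haveI := Fact.mk hR.prime
    obtain ⟨n, hn⟩ := (hR.isPGroup.to_le hW).exists_card_eq
    rw [hn] at hd
    exact hR.prime_ne S ((Nat.prime_dvd_prime_iff_eq S.prime hR.prime).1 (S.prime.dvd_of_dvd_pow hd)).symm
  have hW' : ∀ a b : W, a * b = b * a := fun a b => Subtype.ext (hWc a a.2 b b.2)
  let P : W → G := fun w => ⁅((w⁻¹ : W) : G), ((d.out : R) : G)⁆ * w
  have hproj : ∀ f : R ⧸ L' → fix V W, ∑ w : W, P w • (∑ c : R ⧸ L', ((c.out : R) : G) • (f c : V)) =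
      Nat.card W • (((d.out : R) : G) • (f d : V)) := by
    intro f
    simp only [Finset.smul_sum]
    rw [Finset.sum_comm]
    have e : ∀ c : R ⧸ L', ∑ w : W, P w • ((c.out : R) : G) • (f c : V) =
        (if c = d then Nat.card W • (((c.out : R) : G) • (f c : V)) else 0) := by
      intro c
      let ψ : W →* ringOf V (zOf R) :=
        { toFun := fun w => χ d.out w⁻¹ * χ c.out w
          map_one' := by rw [inv_one, map_one, map_one, mul_one]
          map_mul' := fun a b => by rw [mul_inv_rev, hW' b⁻¹ a⁻¹, map_mul, map_mul]; ring }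
      have h1 : ∀ w : W, P w • ((c.out : R) : G) • (f c : V) =
          (ψ w : AddMonoid.End V) (((c.out : R) : G) • (f c : V)) := fun w => by
        show _ = ⁅((w⁻¹ : W) : G), ((d.out : R) : G)⁆ • ⁅(w : G), ((c.out : R) : G)⁆ • ((c.out : R) : G) • (f c : V)
        rw [show P w = ⁅((w⁻¹ : W) : G), ((d.out : R) : G)⁆ * w from rfl, mul_smul]
        congr 1
        conv_lhs => rw [← mul_smul, show (w : G) * ((c.out : R) : G) =
          ⁅(w : G), ((c.out : R) : G)⁆ * ((c.out : R) : G) * w by simp only [commutatorElement_def]; group,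
          mul_smul, mul_smul, (f c).2 w w.2]
      simp only [h1]
      rw [← sum_end_apply, ← AddSubmonoidClass.coe_finset_sum, sum_hom_units ψ]
      have h2 : ψ = 1 ↔ c = d := by
        constructor
        · intro h
          rw [← Quotient.out_eq c, ← Quotient.out_eq d]
          refine (hinj _ _).1 (MonoidHom.ext fun w => ?_)
          have h3 : χ d.out w⁻¹ * χ c.out w = 1 := DFunLike.congr_fun h w
          have h4 : χ d.out w * χ d.out w⁻¹ = 1 := by rw [← map_mul, mul_inv_cancel, map_one]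
          calc χ c.out w = χ d.out w * χ d.out w⁻¹ * χ c.out w := by rw [h4, one_mul]
            _ = χ d.out w := by rw [mul_assoc, h3, mul_one]
        · rintro rfl
          refine MonoidHom.ext fun w => ?_
          show χ c.out w⁻¹ * χ c.out w = 1
          rw [← map_mul, inv_mul_cancel, map_one]
      by_cases hcd : c = d
      · rw [if_pos (h2.2 hcd), if_pos hcd, Nat.card_eq_fintype_card, Subring.coe_natCast,
          AddMonoid.End.natCast_apply]
      · rw [if_neg (fun h => hcd (h2.1 h)), if_neg hcd, Nat.cast_zero, Subring.coe_zero]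
        rfl
    rw [Finset.sum_congr rfl (fun c _ => e c), Finset.sum_ite_eq' Finset.univ d, if_pos (Finset.mem_univ _)]
  have h1 := hproj f
  rw [show (∑ c : R ⧸ L', ((c.out : R) : G) • (f c : V)) = _ from h, hproj g] at h1
  by_contra hne
  refine S.nsmul_ne_zero hq (sub_ne_zero.2 hne) ?_
  rw [smul_comm (Nat.card W) ((d.out : R) : G), smul_comm (Nat.card W) ((d.out : R) : G)] at h1
  rw [smul_sub, sub_eq_zero]
  exact (smul_left_cancel _ h1).symm

end Cfsg.Agent.TransLin
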