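/-
The possible subgroups of extraspecial type in a transitive linear group.
-/
import Cfsg.Agent.Lib.Solvable.TransLinear.Count

set_option autoImplicit false
set_option linter.style.haveILetI false
set_option linter.unusedSectionVars false

namespace Cfsg.Agent.TransLin

open scoped commutatorElement
open Subgroup

universe u v

variable {G : Type u} {V : Type v} [Group G] [AddCommGroup V] [DistribMulAction G V] {q : ℕ}
variable (S : Setup G V q) [Finite G] [Finite V]
include S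

theorem Setup.card_pow : ∃ n, 0 < n ∧ Nat.card V = q ^ n := by
  haveI : Nontrivial V := let ⟨v, hv⟩ := S.nontriv; ⟨v, 0, hv⟩
  have h : ∀ r : ℕ, r.Prime → r ∣ Nat.card V → r = q := fun r hr hd => by
    haveI := Fact.mk hr
    obtain ⟨x, hx⟩ := exists_prime_addOrderOf_dvd_card' r hd
    exact (Nat.prime_dvd_prime_iff_eq hr S.prime).1 (hx ▸ addOrderOf_dvd_of_nsmul_eq_zero (S.exp x))
  have hc : Nat.card V = q ^ (Nat.card V).factorization q := by
    conv_lhs => rw [Nat.eq_prime_pow_of_unique_prime_dvd (Nat.card_pos (α := V)).ne' (fun {d} hd => h d hd)]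
    congr 1
    conv_rhs => rw [Nat.eq_prime_pow_of_unique_prime_dvd (Nat.card_pos (α := V)).ne' (fun {d} hd => h d hd)]
    rw [S.prime.factorization_pow, Finsupp.single_eq_same]
  refine ⟨_, Nat.pos_of_ne_zero fun h0 => ?_, hc⟩
  rw [h0, pow_zero] at hc
  exact (Finite.one_lt_card (α := V)).ne' hc

theorem Setup.addSubgroup_card (H : AddSubgroup V) : ∃ m, Nat.card H = q ^ m := by
  obtain ⟨n, -, hn⟩ := S.card_pow
  obtain ⟨m, -, hm⟩ := (Nat.dvd_prime_pow S.prime).1 (hn ▸ AddSubgroup.card_addSubgroup_dvd_card H)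
  exact ⟨m, hm⟩

theorem Setup.card_orbit_dvd : Nat.card V - 1 ∣ Nat.card G := by
  classical
  obtain ⟨v, hv⟩ := S.nontriv
  have h : MulAction.orbit G v = {w : V | w ≠ 0} := Set.ext fun w => ⟨fun ⟨g, hg⟩ => by
    subst hg; exact fun h => hv (smul_eq_zero_iff_eq g |>.1 h), fun hw => S.trans v w hv hw⟩
  have hc : Nat.card (MulAction.orbit G v) = Nat.card V - 1 := by
    rw [h, Nat.card_coe_set_eq, show {w : V | w ≠ 0} = {(0 : V)}ᶜ from rfl, Set.ncard_compl, Set.ncard_singleton]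
  rw [← hc, Nat.card_congr (MulAction.orbitEquivQuotientStabilizer G v)]
  exact Subgroup.index_dvd_card _

variable {p : ℕ} {R : Subgroup G} (hR : ES p R)
include hR

/-- The basic data at one vector. -/
theorem ES.facts {v : V} (hv : v ≠ 0) :
    (∀ a ∈ R ⊓ MulAction.stabilizer G v, ∀ b ∈ R ⊓ MulAction.stabilizer G v, a * b = b * a) ∧
      (R ⊓ MulAction.stabilizer G v) ⊓ zOf R = ⊥ :=
  ⟨fun a ha b hb => (hR.stab_inf S hv ha.1 ha.2).2 b hb.1 hb.2,
    eq_bot_iff.2 fun x hx => mem_bot.2 (hR.z_semiregular S hx.2 hv hx.1.2)⟩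

/-- Counting pairs of a vector and a fixing element. -/
theorem ES.count {v : V} (hv : v ≠ 0) (hW : 1 < Nat.card (R ⊓ MulAction.stabilizer G v : Subgroup G)) :
    ∃ x ∈ R, x ≠ 1 ∧ (∃ u : V, u ≠ 0 ∧ x • u = u) ∧
      Nat.card (fix V (R ⊓ MulAction.stabilizer G v)) ≤ Nat.card (fix V (zpowers x)) ∧
      (Nat.card V - 1) * (Nat.card (R ⊓ MulAction.stabilizer G v : Subgroup G) - 1) ≤
        Set.ncard {x : G | x ∈ R ∧ x ≠ 1 ∧ ∃ u : V, u ≠ 0 ∧ x • u = u} * (Nat.card (fix V (zpowers x)) - 1) := by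
  classical
  haveI := Fintype.ofFinite G
  haveI := Fintype.ofFinite V
  set W := R ⊓ MulAction.stabilizer G v
  set I := Finset.univ.filter fun x : G => x ∈ R ∧ x ≠ 1 ∧ ∃ u : V, u ≠ 0 ∧ x • u = u with hI
  obtain ⟨w, hw, hw1⟩ : ∃ w ∈ W, w ≠ 1 := by
    by_contra! hc
    rw [(Subgroup.eq_bot_iff_forall W).2 hc, Subgroup.card_bot] at hW
    omega
  have hne : I.Nonempty := ⟨w, Finset.mem_filter.2 ⟨Finset.mem_univ _, hw.1, hw1, v, hv, hw.2⟩⟩
  obtain ⟨x, hx, hmax⟩ := Finset.exists_max_image I (fun x => Nat.card (fix V (zpowers x))) hne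
  have hx' := (Finset.mem_filter.1 hx).2
  refine ⟨x, hx'.1, hx'.2.1, hx'.2.2, ?_, ?_⟩
  · refine le_trans ?_ (hmax w (Finset.mem_filter.2 ⟨Finset.mem_univ _, hw.1, hw1, v, hv, hw.2⟩))
    exact Nat.card_le_card_of_injective (fun u => (⟨u, mem_fix_zpowers.2 (u.2 w hw)⟩ : fix V (zpowers w)))
      fun a b h => Subtype.ext (congrArg (fun c : fix V (zpowers w) => (c : V)) h)
  set P : G → V → Prop := fun x u => x ∈ R ∧ x ≠ 1 ∧ u ≠ 0 ∧ x • u = u with hP
  have h1 : ∑ u : V, (Finset.univ.filter fun x => P x u).card = (Nat.card V - 1) * (Nat.card W - 1) := by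
    have : ∀ u : V, (Finset.univ.filter fun x => P x u).card = if u = 0 then 0 else Nat.card W - 1 := by
      intro u
      split_ifs with hu
      · simp [hP, hu]
      rw [hR.card_stab S hv hu, Nat.card_eq_fintype_card, ← Finset.card_univ,
        ← Finset.card_erase_of_mem (Finset.mem_univ (1 : (R ⊓ MulAction.stabilizer G u : Subgroup G)))]
      refine Finset.card_bij (fun x hx => ⟨x, (Finset.mem_filter.1 hx).2.1, (Finset.mem_filter.1 hx).2.2.2.2⟩)
        (fun x hx => Finset.mem_erase.2 ⟨fun h => (Finset.mem_filter.1 hx).2.2.1 (congrArg Subtype.val h),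
          Finset.mem_univ _⟩) (fun a _ b _ h => congrArg Subtype.val h) fun y hy => ?_
      exact ⟨y, Finset.mem_filter.2 ⟨Finset.mem_univ _, y.2.1,
        fun h => (Finset.mem_erase.1 hy).1 (Subtype.ext h), hu, y.2.2⟩, rfl⟩
    rw [Finset.sum_congr rfl (fun u _ => this u), Finset.sum_ite, Finset.sum_const_zero, zero_add,
      Finset.sum_const, smul_eq_mul, Finset.filter_ne' Finset.univ (0 : V),
      Finset.card_erase_of_mem (Finset.mem_univ _), Finset.card_univ, ← Nat.card_eq_fintype_card]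
  have h2 : ∑ u : V, (Finset.univ.filter fun x => P x u).card =
      ∑ x ∈ I, (Finset.univ.filter fun u => P x u).card := by
    simp only [Finset.card_filter]
    rw [Finset.sum_comm]
    refine (Finset.sum_subset (Finset.subset_univ I) fun y _ hy => ?_).symm
    refine Finset.sum_eq_zero fun u _ => if_neg fun h => hy ?_
    exact Finset.mem_filter.2 ⟨Finset.mem_univ _, h.1, h.2.1, u, h.2.2⟩
  rw [← h1, h2, show Set.ncard {x : G | x ∈ R ∧ x ≠ 1 ∧ ∃ u : V, u ≠ 0 ∧ x • u = u} = I.card by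
    rw [← Set.ncard_coe_finset]; congr 1; ext; simp [hI], ← smul_eq_mul]
  refine Finset.sum_le_card_nsmul I _ _ fun y hy => le_trans (le_of_eq ?_) (Nat.sub_le_sub_right (hmax y hy) 1)
  rw [Nat.card_eq_fintype_card, ← Finset.card_univ,
    ← Finset.card_erase_of_mem (Finset.mem_univ (0 : fix V (zpowers y)))]
  refine Finset.card_bij (fun u hu => ⟨u, mem_fix_zpowers.2 (Finset.mem_filter.1 hu).2.2.2.2⟩)
    (fun u hu => Finset.mem_erase.2 ⟨fun h => (Finset.mem_filter.1 hu).2.2.2.1 (congrArg Subtype.val h),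
      Finset.mem_univ _⟩) (fun a _ b _ h => congrArg Subtype.val h) fun u hu => ?_
  exact ⟨u, Finset.mem_filter.2 ⟨Finset.mem_univ _, (Finset.mem_filter.1 hy).2.1, (Finset.mem_filter.1 hy).2.2.1,
    fun h => (Finset.mem_erase.1 hu).1 (Subtype.ext h), mem_fix_zpowers.1 u.2⟩, rfl⟩

/-- An element with fixed vectors has order `p` and meets the centre trivially. -/
theorem ES.fixer {x : G} (hx : x ∈ R) (hx1 : x ≠ 1) {u : V} (hu : u ≠ 0) (hxu : x • u = u) :
    x ^ p = 1 ∧ orderOf x = p ∧ zpowers x ⊓ zOf R = ⊥ := by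
  haveI := Fact.mk hR.prime
  have h := (hR.stab_inf S hu hx hxu).1
  refine ⟨h, orderOf_eq_prime h hx1, eq_bot_iff.2 fun y hy => mem_bot.2 ?_⟩
  exact hR.z_semiregular S hy.2 hu (mem_fix.1 (mem_fix_zpowers.2 hxu) y hy.1)

theorem ES.fix_pow {x : G} (hx : x ∈ R) (hx1 : x ≠ 1) {u : V} (hu : u ≠ 0) (hxu : x • u = u) :
    Nat.card (fix V (zpowers x)) ^ p ≤ Nat.card V := by
  obtain ⟨-, ho, hz⟩ := hR.fixer S hx hx1 hu hxu
  have := (hR.index_eq S (zpowers_le.2 hx)
    (fun a ha b hb => congrArg Subtype.val (mul_comm' ha hb)) hz).2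
  rwa [Nat.card_zpowers, ho] at this
where
  mul_comm' {x a b : G} (ha : a ∈ zpowers x) (hb : b ∈ zpowers x) :
      (⟨a, ha⟩ * ⟨b, hb⟩ : zpowers x) = ⟨b, hb⟩ * ⟨a, ha⟩ := by
    obtain ⟨i, rfl⟩ := ha
    obtain ⟨j, rfl⟩ := hb
    exact Subtype.ext (show x ^ i * x ^ j = x ^ j * x ^ i by rw [← zpow_add, ← zpow_add, add_comm])

/-- The fixed space of a stabiliser has more than `p` vectors. -/
theorem ES.lt_card_fix {v : V} (hv : v ≠ 0) : p < Nat.card (fix V (R ⊓ MulAction.stabilizer G v)) := by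
  classical
  obtain ⟨z, hz, ho, -⟩ := hR.exists_root S
  have hmem : ∀ i : ℕ, z ^ i • v ∈ fix V (R ⊓ MulAction.stabilizer G v) := fun i w hw => by
    rw [← mul_smul, ((Commute.pow_left (show Commute z w from
      (mem_centralizer_iff.1 hz.2 w hw.1).symm) i).symm).eq, mul_smul, show w • v = v from hw.2]
  let f : Option (Fin p) → fix V (R ⊓ MulAction.stabilizer G v) := fun o =>
    match o with
    | none => 0
    | some i => ⟨z ^ (i : ℕ) • v, hmem i⟩
  have hf : Function.Injective f := by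
    rintro (_ | i) (_ | j) h
    · rfl
    · exact absurd (smul_eq_zero_iff_eq _ |>.1 (congrArg Subtype.val h).symm) hv
    · exact absurd (smul_eq_zero_iff_eq _ |>.1 (congrArg Subtype.val h)) hv
    · have h' : z ^ (i : ℕ) • v = z ^ (j : ℕ) • v := congrArg Subtype.val h
      have := hR.z_semiregular S ((zOf R).mul_mem ((zOf R).inv_mem ((zOf R).pow_mem hz j)) ((zOf R).pow_mem hz i)) hv
        (by rw [mul_smul, h', inv_smul_smul])
      exact congrArg some (Fin.ext (pow_injOn_Iio_orderOf (ho.symm ▸ i.2 : (i : ℕ) < orderOf z)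
        (ho.symm ▸ j.2 : (j : ℕ) < orderOf z) (inv_mul_eq_one.1 this).symm))
  have := Nat.card_le_card_of_injective f hf
  rw [Nat.card_eq_fintype_card, Fintype.card_option, Fintype.card_fin] at this
  omega

omit hR in
/-- For odd `p` the bounds are incompatible. -/
theorem Setup.odd_num {p a t M Q I : ℕ} (hp : p.Prime) (h2 : p ≠ 2) (ha : 0 < a) (ht : p < t)
    (hM : M ^ p ≤ Q) (hQ : t ^ p ^ a ≤ Q) (htM : t ≤ M) (hI : I ≤ p * (p ^ a * p ^ a))
    (h : (Q - 1) * (p ^ a - 1) ≤ I * (M - 1)) : False := by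
  have hp3 : 3 ≤ p := by have := hp.two_le; omega
  rcases Nat.lt_or_ge a 2 with ha2 | ha2
  · obtain rfl : a = 1 := by omega
    rw [pow_one] at *
    have h1 : (M ^ p - 1) * 2 ≤ p * (p * p) * (M - 1) :=
      (Nat.mul_le_mul (Nat.sub_le_sub_right hM 1) (show 2 ≤ p - 1 by omega)).trans (h.trans (Nat.mul_le_mul_right _ hI))
    rcases eq_or_ne p 3 with rfl | hp'
    · obtain ⟨k, rfl⟩ : ∃ k, M = k + 4 := ⟨M - 4, by omega⟩
      have e : (k + 4) ^ 3 - 1 = (k + 3) * (k * k + 9 * k + 21) := by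
        rw [show (k + 4) ^ 3 = (k + 3) * (k * k + 9 * k + 21) + 1 by ring]; omega
      rw [e, show k + 4 - 1 = k + 3 by omega] at h1
      nlinarith
    · have hp5 : 5 ≤ p := by
        rcases Nat.lt_or_ge p 5 with hp5 | hp5
        · exfalso; interval_cases p <;> first | omega | exact absurd hp (by decide)
        · exact hp5
      have h3 : M ^ 5 ≤ M ^ p := Nat.pow_le_pow_right (by omega) hp5
      have h5 : p * (p * p) ≤ M * (M * M) := Nat.mul_le_mul (by omega) (Nat.mul_le_mul (by omega) (by omega))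
      have h6 : (M ^ 5 - 1) * 2 ≤ M * (M * M) * (M - 1) :=
        le_trans (Nat.mul_le_mul_right _ (Nat.sub_le_sub_right h3 1)) (h1.trans (Nat.mul_le_mul_right _ h5))
      obtain ⟨k, rfl⟩ : ∃ k, M = k + 1 := ⟨M - 1, by omega⟩
      have e : (k + 1) ^ 5 - 1 = (k + 1) * ((k + 1) * (k + 1)) * ((k + 1) * (k + 1)) - 1 := by congr 1; ring
      rw [e, show k + 1 - 1 = k by omega] at h6
      have : 1 ≤ (k + 1) * ((k + 1) * (k + 1)) * ((k + 1) * (k + 1)) := Nat.one_le_iff_ne_zero.2 (by positivity)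
      zify [this] at h6
      nlinarith
  have hw : p ^ 2 ≤ p ^ a := Nat.pow_le_pow_right hp.pos ha2
  have hw3 : 9 ≤ p ^ a := le_trans (Nat.pow_le_pow_left hp3 2) hw
  have hM1 : 1 ≤ M := by omega
  have hQ1 : Q ≤ p * (p ^ a * p ^ a) * M := by
    by_contra hc
    push Not at hc
    have h1 := h.trans (Nat.mul_le_mul_right _ hI)
    have h3 : (Q - 1) * 8 ≤ p * (p ^ a * p ^ a) * (M - 1) := le_trans (Nat.mul_le_mul_left _ (by omega)) h1
    have h4 : p * (p ^ a * p ^ a) * (M - 1) ≤ p * (p ^ a * p ^ a) * M := Nat.mul_le_mul_left _ (Nat.sub_le M 1)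
    have : 0 < p * (p ^ a * p ^ a) * M := by positivity
    omega
  have hQ0 : 0 < Q := lt_of_lt_of_le (pow_pos (by omega) _) hQ
  have h2' : Q ^ (p - 1) ≤ (p * (p ^ a * p ^ a)) ^ p := by
    refine Nat.le_of_mul_le_mul_right (?_ : Q ^ (p - 1) * Q ≤ (p * (p ^ a * p ^ a)) ^ p * Q) hQ0
    calc Q ^ (p - 1) * Q = Q ^ p := by rw [← pow_succ]; congr 1; omega
      _ ≤ (p * (p ^ a * p ^ a) * M) ^ p := Nat.pow_le_pow_left hQ1 p
      _ = (p * (p ^ a * p ^ a)) ^ p * M ^ p := mul_pow _ _ _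
      _ ≤ _ := Nat.mul_le_mul_left _ hM
  have he : p * (2 * a + 1) ≤ p ^ a * (p - 1) := by
    obtain ⟨b, rfl⟩ : ∃ b, a = b + 2 := ⟨a - 2, by omega⟩
    have hb : 2 * (b + 2) + 1 ≤ p ^ (b + 1) * (p - 1) := by
      have h3 : 3 ^ (b + 1) * 2 ≤ p ^ (b + 1) * (p - 1) := Nat.mul_le_mul (Nat.pow_le_pow_left hp3 _) (by omega)
      have h4 : 3 * (b + 1) ≤ 3 ^ (b + 1) := by
        clear * -
        induction b with
        | zero => norm_num
        | succ b ih => rw [pow_succ]; omega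
      omega
    calc p * (2 * (b + 2) + 1) ≤ p * (p ^ (b + 1) * (p - 1)) := Nat.mul_le_mul_left _ hb
      _ = _ := by ring
  have h5 : (p + 1) ^ (p * (2 * a + 1)) ≤ p ^ (p * (2 * a + 1)) :=
    calc (p + 1) ^ (p * (2 * a + 1)) ≤ (p + 1) ^ (p ^ a * (p - 1)) := Nat.pow_le_pow_right (by omega) he
      _ ≤ t ^ (p ^ a * (p - 1)) := Nat.pow_le_pow_left ht _
      _ = (t ^ p ^ a) ^ (p - 1) := pow_mul _ _ _
      _ ≤ Q ^ (p - 1) := Nat.pow_le_pow_left hQ _
      _ ≤ _ := h2'
      _ = _ := by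
        rw [show p * (p ^ a * p ^ a) = p ^ (2 * a + 1) by rw [← pow_add, ← pow_succ']; congr 1; omega, ← pow_mul]
        congr 1; ring
  exact absurd h5 (not_le.2 (Nat.pow_lt_pow_left (by omega) (Nat.mul_ne_zero hp.ne_zero (by omega))))

/-- A subgroup of extraspecial type is a `2`-group. -/
theorem ES.eq_two : p = 2 := by
  classical
  by_contra h2
  haveI := Fact.mk hR.prime
  obtain ⟨v, hv⟩ := S.nontriv
  obtain ⟨z, hz, ho, hzall⟩ := hR.exists_root S
  set W := R ⊓ MulAction.stabilizer G v with hW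
  obtain ⟨hWc, hWz⟩ := hR.facts S hv
  obtain ⟨hcard, hpow⟩ := hR.index_eq S (inf_le_left : W ≤ R) hWc hWz
  have hL : Nat.card (R ⊓ centralizer (W : Set G) : Subgroup G) ≤ p * Nat.card W := by
    refine card_le_mul p (fun i => (z ^ (i : ℕ))⁻¹) fun x hx => ?_
    obtain ⟨i, hi, hm⟩ := hR.almost S hz ho hv hx.1 (mem_centralizer_iff.1 hx.2)
      (by have := hR.exp x hx.1; rwa [expo, if_neg h2] at this)
    exact ⟨⟨i, hi⟩, z ^ i * x, hm, by rw [inv_mul_cancel_left]⟩
  obtain ⟨a, ha⟩ := (hR.isPGroup.to_le (inf_le_left : W ≤ R)).exists_card_eq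
  have ha0 : 0 < a := by
    by_contra h0
    obtain rfl : a = 0 := by omega
    rw [pow_zero] at ha
    rw [ha, one_mul] at hcard
    rw [ha, mul_one, ← hcard] at hL
    obtain ⟨r, hr, s, hs, hrs⟩ := hR.nonab
    obtain ⟨b, hb⟩ := hR.isPGroup.exists_card_eq
    rw [hb] at hL
    have hb1 : b ≤ 1 := (Nat.pow_le_pow_iff_right hR.prime.one_lt).1 (by rwa [pow_one])
    have hbc : IsCyclic R := by
      interval_cases b
      · haveI : Subsingleton R := (Nat.card_eq_one_iff_unique.1 (by simpa using hb)).1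
        infer_instance
      · exact isCyclic_of_prime_card (by simpa using hb)
    obtain ⟨g, hg⟩ := hbc.exists_generator
    obtain ⟨i, hi⟩ := hg ⟨r, hr⟩
    obtain ⟨j, hj⟩ := hg ⟨s, hs⟩
    refine hrs (commutatorElement_eq_one_iff_mul_comm.2 ?_)
    have hi' : (g : G) ^ i = r := congrArg Subtype.val hi
    have hj' : (g : G) ^ j = s := congrArg Subtype.val hj
    rw [← hi', ← hj', ← zpow_add, ← zpow_add, add_comm]
  have hW1 : 1 < Nat.card W := by rw [ha]; exact Nat.one_lt_pow (by omega) hR.prime.one_lt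
  obtain ⟨x, hx, hx1, ⟨u, hu, hxu⟩, htM, hmain⟩ := hR.count S hv hW1
  refine S.odd_num hR.prime h2 ha0 (hR.lt_card_fix S hv) (hR.fix_pow S hx hx1 hu hxu)
    (by rw [← ha]; exact hpow) htM ?_ (by rw [← ha]; exact hmain)
  refine le_trans (Set.ncard_le_ncard (fun x hx => hx.1) (Set.toFinite _)) ?_
  rw [← Nat.card_coe_set_eq]
  show Nat.card R ≤ _
  rw [hcard, ← ha, mul_left_comm p]
  exact Nat.mul_le_mul_left _ hL

end Cfsg.Agent.TransLin
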