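/-
Subgroups of extraspecial type for `p = 2`: small spaces, or a semiregular quaternion group.
-/
import Cfsg.Agent.Lib.Solvable.TransLinear.Cases
import Mathlib.GroupTheory.GroupAction.ConjAct

set_option autoImplicit false
set_option linter.style.haveILetI false
set_option linter.unusedSectionVars false

namespace Cfsg.Agent.TransLin

open scoped commutatorElement
open Subgroup

universe u v

variable {G : Type u} {V : Type v} [Group G] [AddCommGroup V] [DistribMulAction G V] {q : ℕ}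
variable (S : Setup G V q) [Finite G] [Finite V]
variable {R : Subgroup G} (hR : ES 2 R)
include S hR

theorem ES.odd_q : 3 ≤ q ∧ ¬ 2 ∣ q := by
  have h := hR.prime_ne S
  have h2 := S.prime.two_le
  refine ⟨by omega, fun hd => h ((Nat.prime_dvd_prime_iff_eq Nat.prime_two S.prime).1 hd)⟩

/-- The central involution negates. -/
theorem ES.z_neg {z : G} (hz : z ∈ zOf R) (ho : orderOf z = 2) (v : V) : z • v = -v := by
  by_contra h
  have h0 : v + z • v ≠ 0 := fun e => h (eq_neg_of_add_eq_zero_right e)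
  have h2 : z * z = 1 := by rw [← pow_two, ← ho, pow_orderOf_eq_one]
  have := hR.z_semiregular S hz h0 (by rw [smul_add, ← mul_smul, h2, one_smul, add_comm])
  rw [this, orderOf_one] at ho
  omega

theorem ES.eq_z {z : G} (hzall : ∀ x ∈ zOf R, x ^ 2 = 1 → ∃ i < 2, x = z ^ i) {x : G} (hx : x ∈ zOf R)
    (hx2 : x ^ 2 = 1) (hx1 : x ≠ 1) : x = z := by
  obtain ⟨i, hi, rfl⟩ := hzall x hx hx2
  interval_cases i <;> simp_all

/-- A noncentral involution fixes exactly the square root. -/
theorem ES.fix_sq {x : G} (hx : x ∈ R) (hx1 : x ≠ 1) {u : V} (hu : u ≠ 0) (hxu : x • u = u) :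
    Nat.card (fix V (zpowers x)) * Nat.card (fix V (zpowers x)) = Nat.card V := by
  obtain ⟨z, hz, ho, hzall⟩ := hR.exists_root S
  refine le_antisymm (by rw [← pow_two]; exact hR.fix_pow S hx hx1 hu hxu) ?_
  obtain ⟨hx2, -, hxz⟩ := hR.fixer S hx hx1 hu hxu
  obtain ⟨g, hg, hgx⟩ : ∃ g ∈ R, ⁅x, g⁆ ≠ 1 := by
    by_contra! hc
    refine hx1 (mem_bot.1 (hxz ▸ (⟨mem_zpowers x, hx, mem_centralizer_iff.2 fun r hr => ?_⟩ : x ∈ zpowers x ⊓ zOf R)))
    exact (commutatorElement_eq_one_iff_mul_comm.1 (hc r hr)).symm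
  have hxg : x * g = z * g * x := by
    rw [← hR.eq_z S hzall (hR.comm_mem hx hg) (hR.cpow x hx g hg) hgx, commutatorElement_def]; group
  have hxx : ∀ v : V, x • x • v = v := fun v => by rw [← mul_smul, ← pow_two, hx2, one_smul]
  rw [← Nat.card_prod]
  refine Nat.card_le_card_of_injective (fun v =>
    ((⟨v + x • v, mem_fix_zpowers.2 (by rw [smul_add, hxx, add_comm])⟩ : fix V (zpowers x)),
     (⟨g • (v - x • v), mem_fix_zpowers.2 (by
        rw [← mul_smul, hxg, mul_smul, mul_smul, hR.z_neg S hz ho, ← smul_neg, smul_sub, hxx, neg_sub])⟩ :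
        fix V (zpowers x)))) fun a b h => ?_
  have h1 : a + x • a = b + x • b := congrArg (fun c : _ × _ => ((c.1 : fix V (zpowers x)) : V)) h
  have h2 : a - x • a = b - x • b :=
    smul_left_cancel g (congrArg (fun c : _ × _ => ((c.2 : fix V (zpowers x)) : V)) h)
  by_contra hne
  refine S.nsmul_ne_zero (m := 2) (fun hd => (hR.odd_q S).2 ?_) (sub_ne_zero.2 hne) ?_
  · rw [(Nat.prime_dvd_prime_iff_eq S.prime Nat.prime_two).1 hd]
  · rw [smul_sub, sub_eq_zero, two_nsmul, two_nsmul, show a + a = (a + x • a) + (a - x • a) by abel, h1, h2]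
    abel

/-- Orders of centralisers of stabilisers. -/
theorem ES.l_bounds {z : G} (hz : z ∈ zOf R) (ho : orderOf z = 2)
    (hzall : ∀ x ∈ zOf R, x ^ 2 = 1 → ∃ i < 2, x = z ^ i) {v : V} (hv : v ≠ 0) {W L : Subgroup G}
    (hW : W = R ⊓ MulAction.stabilizer G v) (hL : L = R ⊓ centralizer (W : Set G)) :
    (∀ x ∈ L, x ^ 2 = 1 → ∃ i < 2, z ^ i * x ∈ W) ∧
      (∀ r ∈ L, (∀ i < 2, z ^ i * r ∉ W) → Nat.card (L ⊓ centralizer ({r} : Set G) : Subgroup G) ≤ 4 * Nat.card W) ∧
      Nat.card L ≤ 8 * Nat.card W ∧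
      ((∀ a ∈ L, ∀ b ∈ L, a * b = b * a) → Nat.card L ≤ 4 * Nat.card W) := by
  subst hW
  subst hL
  set W := R ⊓ MulAction.stabilizer G v
  set L := R ⊓ centralizer (W : Set G)
  have inv : ∀ x ∈ L, x ^ 2 = 1 → ∃ i < 2, z ^ i * x ∈ W := fun x hx hx2 =>
    hR.almost S hz ho hv hx.1 (mem_centralizer_iff.1 hx.2) hx2
  have sq : ∀ r ∈ L, (∀ i < 2, z ^ i * r ∉ W) → r ^ 2 = z := fun r hr hout => by
    refine hR.eq_z S hzall (hR.pow_mem_z hr.1) ?_ fun h => ?_
    · rw [← pow_mul]; exact hR.exp r hr.1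
    · obtain ⟨i, hi, hm⟩ := inv r hr h
      exact hout i hi hm
  have hcl : ∀ r ∈ L, (∀ i < 2, z ^ i * r ∉ W) →
      Nat.card (L ⊓ centralizer ({r} : Set G) : Subgroup G) ≤ 4 * Nat.card W := fun r hr hout => by
    refine card_le_mul 4 ![1, z, r⁻¹, r⁻¹ * z] fun x hx => ?_
    have hz2 : z * z = 1 := by rw [← pow_two, ← ho, pow_orderOf_eq_one]
    by_cases hox : ∀ i < 2, z ^ i * x ∉ W
    · have hrx : r * x = x * r := mem_centralizer_singleton_iff.1 hx.2 |>.symm
      obtain ⟨i, hi, hm⟩ := inv (r * x) (L.mul_mem hr hx.1)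
        (by rw [Commute.mul_pow hrx, sq r hr hout, sq x hx.1 hox, hz2])
      interval_cases i
      · exact ⟨2, _, hm, by simp⟩
      · refine ⟨3, _, hm, ?_⟩
        simp only [pow_one]
        show x = r⁻¹ * z * (z * (r * x))
        rw [mul_assoc r⁻¹, ← mul_assoc z z, hz2, one_mul, inv_mul_cancel_left]
    · push Not at hox
      obtain ⟨i, hi, hm⟩ := hox
      interval_cases i
      · exact ⟨0, _, hm, by simp⟩
      · refine ⟨1, _, hm, ?_⟩
        show x = z * (z ^ 1 * x)
        rw [pow_one, ← mul_assoc, hz2, one_mul]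
  have hsmall : (∀ r ∈ L, ∃ i < 2, z ^ i * r ∈ W) → Nat.card L ≤ 2 * Nat.card W := fun h => by
    refine card_le_mul 2 (fun i => (z ^ (i : ℕ))⁻¹) fun x hx => ?_
    obtain ⟨i, hi, hm⟩ := h x hx
    exact ⟨⟨i, hi⟩, _, hm, by rw [inv_mul_cancel_left]⟩
  refine ⟨inv, hcl, ?_, fun hab => ?_⟩
  · by_cases hout : ∃ r ∈ L, ∀ i < 2, z ^ i * r ∉ W
    swap
    · push Not at hout
      have := hsmall hout
      omega
    obtain ⟨r, hr, hout⟩ := hout
    have h4 := hcl r hr hout
    by_cases hs : ∃ s ∈ L, ⁅r, s⁆ ≠ 1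
    · obtain ⟨s, hs, hrs⟩ := hs
      have h2 : Nat.card L ≤ 2 * Nat.card (L ⊓ centralizer ({r} : Set G) : Subgroup G) := by
        refine card_le_mul 2 ![1, s] fun x hx => ?_
        by_cases hrx : ⁅r, x⁆ = 1
        · exact ⟨0, x, ⟨hx, mem_centralizer_singleton_iff.2 (commutatorElement_eq_one_iff_mul_comm.1 hrx).symm⟩,
            by simp⟩
        · refine ⟨1, s⁻¹ * x, ⟨L.mul_mem (L.inv_mem hs) hx, mem_centralizer_singleton_iff.2 ?_⟩,
            (mul_inv_cancel_left s x).symm⟩
          refine (commutatorElement_eq_one_iff_mul_comm.1 ?_).symm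
          have e : ⁅r, x⁆ = ⁅r, s⁆ * ⁅r, s⁻¹ * x⁆ := by
            rw [← hR.comm_mul_right hr.1 hs.1 (R.mul_mem (R.inv_mem hs.1) hx.1), mul_inv_cancel_left]
          rw [hR.eq_z S hzall (hR.comm_mem hr.1 hx.1) (hR.cpow r hr.1 x hx.1) hrx,
            hR.eq_z S hzall (hR.comm_mem hr.1 hs.1) (hR.cpow r hr.1 s hs.1) hrs] at e
          exact mul_eq_left.1 e.symm
      omega
    · push Not at hs
      have hle : L ≤ L ⊓ centralizer ({r} : Set G) := fun x hx =>
        ⟨hx, mem_centralizer_singleton_iff.2 (commutatorElement_eq_one_iff_mul_comm.1 (hs x hx)).symm⟩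
      have := Nat.le_trans (Subgroup.card_le_of_le hle) h4
      omega
  · by_cases hout : ∃ r ∈ L, ∀ i < 2, z ^ i * r ∉ W
    swap
    · push Not at hout
      have := hsmall hout
      omega
    obtain ⟨r, hr, hout⟩ := hout
    have hle : L ≤ L ⊓ centralizer ({r} : Set G) := fun x hx =>
      ⟨hx, mem_centralizer_singleton_iff.2 (hab x hx r hr)⟩
    exact Nat.le_trans (Subgroup.card_le_of_le hle) (hcl r hr hout)

omit S hR in
theorem big_two {a : ℕ} (ha : 3 ≤ a) : 10 * 2 ^ a ≤ 3 ^ 2 ^ (a - 1) := by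
  induction a, ha using Nat.le_induction with
  | base => norm_num
  | succ a ha ih =>
    rw [show a + 1 - 1 = (a - 1) + 1 by omega, pow_succ 2 (a - 1), pow_mul, pow_succ 2 a, pow_two]
    have : 1 ≤ 2 ^ a := Nat.one_le_two_pow
    nlinarith [Nat.mul_le_mul ih ih]

/-- Either the space is small or the subgroup acts semiregularly. -/
theorem ES.two_cases :
    Nat.card V ∈ ({9, 25, 49, 81, 121, 529} : Set ℕ) ∨ ∀ v : V, v ≠ 0 → R ⊓ MulAction.stabilizer G v = ⊥ := by
  classical
  rw [or_iff_not_imp_right]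
  intro hns
  push Not at hns
  obtain ⟨v, hv, hne⟩ := hns
  obtain ⟨z, hz, ho, hzall⟩ := hR.exists_root S
  obtain ⟨hq3, hq2⟩ := hR.odd_q S
  set W := R ⊓ MulAction.stabilizer G v with hW
  set L := R ⊓ centralizer (W : Set G) with hL
  obtain ⟨hWc, hWz⟩ := hR.facts S hv
  have hcard : Nat.card R = Nat.card W * Nat.card L := (hR.index_eq S (inf_le_left : W ≤ R) hWc hWz).1
  have hpow : Nat.card (fix V W) ^ Nat.card W ≤ Nat.card V := (hR.index_eq S (inf_le_left : W ≤ R) hWc hWz).2
  obtain ⟨hinv, -, hL8, hL4⟩ := hR.l_bounds S hz ho hzall hv hW hL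
  haveI := Fact.mk Nat.prime_two
  obtain ⟨a, ha⟩ := (hR.isPGroup.to_le (inf_le_left : W ≤ R)).exists_card_eq
  have ha0 : 0 < a := by
    by_contra h0
    exact hne (Subgroup.card_eq_one.1 (by rw [ha, show a = 0 by omega, pow_zero]))
  have hW1 : 1 < Nat.card W := by rw [ha]; exact Nat.one_lt_pow (by omega) (by norm_num)
  obtain ⟨x, hx, hx1, ⟨u, hu, hxu⟩, htM', hmain⟩ := hR.count S hv hW1
  rw [← hW] at hmain
  have htM : Nat.card (fix V W) ≤ Nat.card (fix V (zpowers x)) := htM'
  have hQ := hR.fix_sq S hx hx1 hu hxu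
  obtain ⟨m, hm⟩ := S.addSubgroup_card (fix V (zpowers x))
  obtain ⟨j, hj⟩ := S.addSubgroup_card (fix V W)
  have ht : 2 < Nat.card (fix V W) := hR.lt_card_fix S hv
  -- the count
  set I := Set.ncard {x : G | x ∈ R ∧ x ≠ 1 ∧ ∃ u : V, u ≠ 0 ∧ x • u = u} with hI
  set M := Nat.card (fix V (zpowers x)) with hM
  have hM3 : 3 ≤ M := by omega
  have hMI : (M + 1) * (2 ^ a - 1) ≤ I := by
    have h1 : (M * M - 1) = (M + 1) * (M - 1) := by
      have := Nat.mul_self_sub_mul_self_eq M 1
      simpa [mul_comm] using this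
    rw [← hQ, h1, ha, mul_right_comm] at hmain
    exact Nat.le_of_mul_le_mul_right hmain (by omega)
  have hodd : ∀ i, ¬ 2 ∣ q ^ i := fun i h => hq2 (Nat.prime_two.dvd_of_dvd_pow h)
  have hIR : I ≤ Nat.card R := by
    refine le_trans (Set.ncard_le_ncard (t := (R : Set G)) (fun y hy => hy.1) (Set.toFinite _)) ?_
    exact le_of_eq (Nat.card_coe_set_eq _).symm
  -- a fixed line makes the centraliser abelian
  have hline : j = 1 → ∀ a ∈ L, ∀ b ∈ L, a * b = b * a := fun hj1 r hr s hs => by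
    rw [hj1, pow_one] at hj
    have hmul : ∀ r ∈ L, ∃ n : ℤ, r • v = n • v := fun r hr => by
      have hvW : v ∈ fix V W := fun w hw => hw.2
      have hrv : r • v ∈ fix V W := fun w hw => by
        rw [← mul_smul, mem_centralizer_iff.1 hr.2 w hw, mul_smul, show w • v = v from hw.2]
      have hle : AddSubgroup.zmultiples v ≤ fix V W := AddSubgroup.zmultiples_le.2 hvW
      have heq : AddSubgroup.zmultiples v = fix V W := by
        refine AddSubgroup.eq_of_le_of_card_ge hle ?_
        rw [hj, Nat.card_zmultiples]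
        haveI := Fact.mk S.prime
        exact (addOrderOf_eq_prime (S.exp v) hv).ge
      rw [← heq, AddSubgroup.mem_zmultiples_iff] at hrv
      obtain ⟨n, hn⟩ := hrv
      exact ⟨n, hn.symm⟩
    obtain ⟨i, hi⟩ := hmul r hr
    obtain ⟨k, hk⟩ := hmul s hs
    refine commutatorElement_eq_one_iff_mul_comm.1 (hR.z_semiregular S (hR.comm_mem hr.1 hs.1)
      (v := s • r • v) (fun h => hv ?_) ?_)
    · rwa [smul_eq_zero_iff_eq, smul_eq_zero_iff_eq] at h
    · have hcom : r • s • v = s • r • v := by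
        rw [hk, hi, smul_comm r k v, hi, smul_comm s i v, hk, smul_smul, smul_smul, mul_comm]
      rw [commutatorElement_def, mul_smul, mul_smul, mul_smul, inv_smul_smul, inv_smul_smul, hcom]
  have hj0 : 0 < j := Nat.pos_of_ne_zero fun h => by rw [h, pow_zero] at hj; omega
  have hjbig : j ≠ 1 → q * q ≤ Nat.card (fix V W) := fun h => by
    rw [hj, ← pow_two]
    exact Nat.pow_le_pow_right S.prime.pos (by omega)
  have hRb : Nat.card R ≤ 2 ^ a * (8 * 2 ^ a) := by
    rw [hcard, ← ha]; exact Nat.mul_le_mul_left _ hL8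
  have hlow : Nat.card (fix V W) ^ 2 ^ (a - 1) ≤ M := by
    refine (Nat.pow_le_pow_iff_left two_ne_zero).1 ?_
    rw [← pow_mul, ← pow_succ, show a - 1 + 1 = a by omega, pow_two M, hQ, ← ha]
    exact hpow
  rcases Nat.lt_or_ge a 3 with ha3 | ha3
  swap
  · exfalso
    have h1 : 10 * 2 ^ a ≤ M := (big_two ha3).trans ((Nat.pow_le_pow_left (by omega) _).trans hlow)
    have h2 : 2 ^ 3 ≤ 2 ^ a := Nat.pow_le_pow_right (by norm_num) ha3
    have h3 : (10 * 2 ^ a + 1) * (2 ^ a - 1) ≤ 2 ^ a * (8 * 2 ^ a) :=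
      le_trans (Nat.mul_le_mul_right _ (by omega)) (hMI.trans (hIR.trans hRb))
    obtain ⟨k, hk⟩ : ∃ k, 2 ^ a = k + 8 := ⟨2 ^ a - 8, by omega⟩
    rw [hk, show k + 8 - 1 = k + 7 by omega] at h3
    nlinarith
  rw [← hQ, hm]
  interval_cases a
  · -- one reflection pair
    simp only [Nat.sub_self, pow_zero, pow_one] at *
    obtain ⟨w, hw, hw1⟩ : ∃ w ∈ W, w ≠ 1 := by
      by_contra! hc
      exact hne ((Subgroup.eq_bot_iff_forall W).2 hc)
    have hsub : {x : G | x ∈ R ∧ x ≠ 1 ∧ ∃ u : V, u ≠ 0 ∧ x • u = u} ⊆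
        ((R : Set G) \ (L : Set G)) ∪ {w, z * w} := by
      rintro y ⟨hy, hy1, u', hu', hyu⟩
      by_cases hyL : y ∈ L
      swap
      · exact Or.inl ⟨hy, hyL⟩
      refine Or.inr ?_
      obtain ⟨hy2, -, hyz⟩ := hR.fixer S hy hy1 hu' hyu
      obtain ⟨i, hi, hmem⟩ := hinv y hyL hy2
      have hW2 : ∀ b ∈ W, b = 1 ∨ b = w := by
        intro b hb
        obtain ⟨c, d, hcd, huniv⟩ := Nat.card_eq_two_iff.1 ha
        have h1 : (⟨b, hb⟩ : W) ∈ ({c, d} : Set W) := huniv ▸ Set.mem_univ _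
        have h2 : (1 : W) ∈ ({c, d} : Set W) := huniv ▸ Set.mem_univ _
        have h3 : (⟨w, hw⟩ : W) ∈ ({c, d} : Set W) := huniv ▸ Set.mem_univ _
        have h4 : (⟨w, hw⟩ : W) ≠ 1 := fun h => hw1 (congrArg Subtype.val h)
        simp only [Set.mem_insert_iff, Set.mem_singleton_iff] at h1 h2 h3
        rcases h1 with h1 | h1 <;> rcases h2 with h2 | h2 <;> rcases h3 with h3 | h3 <;>
          first
            | exact absurd (h3.trans h2.symm) h4
            | exact Or.inl (congrArg Subtype.val (h1.trans h2.symm))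
            | exact Or.inr (congrArg Subtype.val (h1.trans h3.symm))
      have hz2 : z * z = 1 := by rw [← pow_two, ← ho, pow_orderOf_eq_one]
      rcases hW2 _ hmem with h1 | h1
      · exfalso
        have hyz' : y ∈ zOf R := by
          rw [show y = (z ^ i)⁻¹ from (inv_eq_of_mul_eq_one_right h1).symm]
          exact (zOf R).inv_mem ((zOf R).pow_mem hz i)
        exact hy1 (mem_bot.1 (hyz ▸ (⟨mem_zpowers y, hyz'⟩ : y ∈ zpowers y ⊓ zOf R)))
      · interval_cases i
        · simp at h1; exact Or.inl h1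
        · refine Or.inr (Set.mem_singleton_iff.2 ?_)
          rw [← h1, pow_one, ← mul_assoc, hz2, one_mul]
    have hIb : I ≤ Nat.card L + 2 := by
      refine le_trans (Set.ncard_le_ncard hsub (Set.toFinite _)) ((Set.ncard_union_le _ _).trans ?_)
      refine Nat.add_le_add ?_ ((Set.ncard_insert_le _ _).trans (by rw [Set.ncard_singleton]))
      rw [Set.ncard_diff (show (L : Set G) ⊆ (R : Set G) from fun x hx => (hx : x ∈ L).1) (Set.toFinite _), ← Nat.card_coe_set_eq, ← Nat.card_coe_set_eq]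
      show Nat.card R - Nat.card L ≤ Nat.card L
      rw [hcard, ha]; omega
    rw [ha] at hL8 hL4
    have hm9 : q ^ m ≤ 9 := by
      by_cases hj1 : j = 1
      · have := hL4 (hline hj1); omega
      · have h1 := hjbig hj1
        have h2 : q ^ m ≤ 17 := by omega
        have hq4 : q ≤ 4 := by nlinarith
        have hq' : q = 3 := by omega
        subst hq'
        have : m < 3 := (Nat.pow_lt_pow_iff_right (by norm_num)).1 (lt_of_le_of_lt h2 (by norm_num : 17 < 3 ^ 3))
        interval_cases m <;> norm_num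
    have h3 : 3 ≤ q ^ m := hm ▸ hM3
    have h2 := hodd m
    rcases (show q ^ m = 3 ∨ q ^ m = 5 ∨ q ^ m = 7 ∨ q ^ m = 9 by omega) with e | e | e | e <;> rw [e] <;> simp
  · -- two generators
    simp only [show 2 - 1 = 1 from rfl, pow_one] at *
    norm_num at hMI hRb
    rw [ha] at hL4
    norm_num at hL4
    by_cases hj1 : j = 1
    · have h1 := hL4 (hline hj1)
      have hR64 : Nat.card R ≤ 4 * 16 := by rw [hcard, ha]; omega
      have h2 : q ^ m ≤ 20 := by omega
      have h3 : q * q ≤ q ^ m := by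
        rw [hj, hj1, pow_one, hm] at hlow
        rw [← pow_two]; exact hlow
      have hq4 : q ≤ 4 := by nlinarith
      have hq' : q = 3 := by omega
      subst hq'
      have : m < 3 := (Nat.pow_lt_pow_iff_right (by norm_num)).1 (lt_of_le_of_lt h2 (by norm_num : 20 < 3 ^ 3))
      interval_cases m <;> first | omega | norm_num at h3 ⊢
    · exfalso
      have h1 := hjbig hj1
      have h2 : 9 ≤ Nat.card (fix V W) := le_trans (Nat.mul_le_mul hq3 hq3) h1
      have h3 : 9 ^ 2 ≤ M := le_trans (Nat.pow_le_pow_left h2 2) hlow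
      omega

/-- A semiregular one is a quaternion group of order eight: the centraliser has index dividing 24. -/
theorem ES.quaternion (hreg : ∀ v : V, v ≠ 0 → R ⊓ MulAction.stabilizer G v = ⊥) :
    (centralizer (R : Set G)).index ∣ 24 := by
  classical
  haveI := Fintype.ofFinite G
  obtain ⟨z, hz, ho, hzall⟩ := hR.exists_root S
  obtain ⟨v, hv⟩ := S.nontriv
  obtain ⟨hWc, hWz⟩ := hR.facts S hv
  have hW : (⊥ : Subgroup G) = R ⊓ MulAction.stabilizer G v := (hreg v hv).symm
  have hL : R = R ⊓ centralizer ((⊥ : Subgroup G) : Set G) := by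
    refine (inf_eq_left.2 fun x _ => mem_centralizer_iff.2 fun y hy => ?_).symm
    rw [mem_bot.1 hy, one_mul, mul_one]
  obtain ⟨-, hcl, h8, -⟩ := hR.l_bounds S hz ho hzall hv hW hL
  rw [Subgroup.card_bot, mul_one] at h8
  haveI := Fact.mk Nat.prime_two
  have big : ∀ H : Subgroup G, H ≤ R → (∃ a ∈ H, ∃ b ∈ H, ⁅a, b⁆ ≠ 1) → 8 ≤ Nat.card H := by
    intro H hH ⟨a, ha, b, hb, hab⟩
    obtain ⟨n, hn⟩ := (hR.isPGroup.to_le hH).exists_card_eq
    by_contra hlt
    have hn3 : n ≤ 2 := by
      by_contra h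
      have : 2 ^ 3 ≤ 2 ^ n := Nat.pow_le_pow_right (by norm_num) (by omega)
      omega
    refine hab (commutatorElement_eq_one_iff_mul_comm.2 ?_)
    have hcomm : ∀ x y : H, x * y = y * x := by
      interval_cases n
      · haveI : Subsingleton H := (Nat.card_eq_one_iff_unique.1 (by simpa using hn)).1
        exact fun x y => Subsingleton.elim _ _
      · haveI : IsCyclic H := isCyclic_of_prime_card (by simpa using hn)
        exact fun x y => by
          obtain ⟨g, hg⟩ := IsCyclic.exists_generator (α := H)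
          obtain ⟨i, rfl⟩ := hg x
          obtain ⟨j, rfl⟩ := hg y
          show g ^ i * g ^ j = g ^ j * g ^ i
          rw [← _root_.zpow_add, ← _root_.zpow_add, add_comm]
      · exact IsPGroup.commutative_of_card_eq_prime_sq (p := 2) hn
    exact congrArg Subtype.val (hcomm ⟨a, ha⟩ ⟨b, hb⟩)
  obtain ⟨r₀, hr₀, s₀, hs₀, hrs₀⟩ := hR.nonab
  have h8' : Nat.card R = 8 := le_antisymm h8 (big R le_rfl ⟨r₀, hr₀, s₀, hs₀, hrs₀⟩)
  have hz2 : z * z = 1 := by rw [← pow_two, ← ho, pow_orderOf_eq_one]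
  have hcard4 : ∀ r ∈ R, r ≠ 1 → r ≠ z → Nat.card (R ⊓ centralizer ({r} : Set G) : Subgroup G) = 4 ∧ r ^ 2 = z := by
    intro r hr h1 hz'
    have hout : ∀ i < 2, z ^ i * r ∉ (⊥ : Subgroup G) := fun i hi => by
      rw [mem_bot]
      interval_cases i
      · simpa using h1
      · rw [pow_one]
        exact fun h => hz' (by rw [← mul_left_cancel_iff (a := z), h, hz2])
    have h4 := hcl r hr hout
    rw [Subgroup.card_bot, mul_one] at h4
    have hr2 : r ^ 2 = z := by
      refine hR.eq_z S hzall (hR.pow_mem_z hr) (by rw [← pow_mul]; exact hR.exp r hr) fun h => ?_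
      obtain ⟨i, hi, hm⟩ := hR.almost S hz ho hv hr
        (fun w hw => by rw [hreg v hv] at hw; rw [mem_bot.1 hw, one_mul, mul_one]) h
      rw [hreg v hv] at hm
      exact hout i hi hm
    have ho4 : orderOf r = 4 := by
      have h := orderOf_eq_prime_pow (p := 2) (n := 1) (x := r)
        (by rw [pow_one, hr2]; intro e; rw [e, orderOf_one] at ho; omega)
        (by
          rw [show 2 ^ (1 + 1) = 4 from rfl]
          exact hR.exp r hr)
      simpa using h
    have hle : zpowers r ≤ R ⊓ centralizer ({r} : Set G) :=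
      zpowers_le.2 ⟨hr, mem_centralizer_singleton_iff.2 rfl⟩
    have := Subgroup.card_le_of_le hle
    rw [Nat.card_zpowers, ho4] at this
    exact ⟨le_antisymm h4 this, hr2⟩
  set P : Finset (G × G) := Finset.univ.filter fun x => x.1 ∈ R ∧ x.2 ∈ R ∧ ⁅x.1, x.2⁆ ≠ 1 with hP
  have hP24 : P.card = 24 := by
    rw [hP, Finset.card_filter, Fintype.sum_prod_type]
    have e : ∀ a : G, (∑ b : G, if a ∈ R ∧ b ∈ R ∧ ⁅a, b⁆ ≠ 1 then 1 else 0) =
        if a ∈ R ∧ a ≠ 1 ∧ a ≠ z then 4 else 0 := by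
      intro a
      split_ifs with ha
      · rw [← Finset.card_filter]
        have h1 : Finset.univ.filter (fun b => a ∈ R ∧ b ∈ R ∧ ⁅a, b⁆ ≠ 1) =
            ((R : Set G) \ ((R ⊓ centralizer ({a} : Set G) : Subgroup G) : Set G)).toFinset := by
          ext b
          simp only [Finset.mem_filter, Finset.mem_univ, true_and, Set.mem_toFinset, Set.mem_diff, SetLike.mem_coe,
            Subgroup.mem_inf, mem_centralizer_singleton_iff, ne_eq, commutatorElement_eq_one_iff_mul_comm, ha.1]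
          exact and_congr_right fun hb => ⟨fun h h' => h h'.2.symm, fun h h' => h ⟨hb, h'.symm⟩⟩
        rw [h1, ← Set.ncard_eq_toFinset_card', Set.ncard_diff (show ((R ⊓ centralizer ({a} : Set G) : Subgroup G) : Set G) ⊆ (R : Set G) from fun x hx => hx.1) (Set.toFinite _),
          ← Nat.card_coe_set_eq, ← Nat.card_coe_set_eq]
        show Nat.card R - Nat.card (R ⊓ centralizer ({a} : Set G) : Subgroup G) = 4
        rw [h8', (hcard4 a ha.1 ha.2.1 ha.2.2).1]
      · refine Finset.sum_eq_zero fun b _ => if_neg fun h => ha ⟨h.1, fun e => ?_, fun e => ?_⟩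
        · exact h.2.2 (by rw [e]; simp [commutatorElement_def])
        · exact h.2.2 (commutatorElement_eq_one_iff_mul_comm.2
            (by rw [e]; exact (mem_centralizer_iff.1 hz.2 b h.2.1).symm))
    rw [Finset.sum_congr rfl (fun a _ => e a), ← Finset.sum_filter, Finset.sum_const, smul_eq_mul]
    have h6 : (Finset.univ.filter fun a => a ∈ R ∧ a ≠ 1 ∧ a ≠ z).card = 6 := by
      have hz1 : z ≠ 1 := fun e => by rw [e, orderOf_one] at ho; omega
      rw [show (Finset.univ.filter fun a => a ∈ R ∧ a ≠ 1 ∧ a ≠ z) =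
        (((Finset.univ.filter fun a => a ∈ R).erase 1).erase z) by ext; simp; tauto,
        Finset.card_erase_of_mem (by simp [hz1, show z ∈ R from hz.1]), Finset.card_erase_of_mem (by simp),
        ← Fintype.card_subtype, ← Nat.card_eq_fintype_card]
      show Nat.card R - 1 - 1 = 6
      rw [h8']
    rw [h6]
  -- the action on generating pairs
  have hconj : ∀ (g : G) (x : G × G), x ∈ P → (g * x.1 * g⁻¹, g * x.2 * g⁻¹) ∈ P := by
    intro g x hx
    simp only [hP, Finset.mem_filter, Finset.mem_univ, true_and] at hx ⊢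
    refine ⟨hR.normal.conj_mem _ hx.1 g, hR.normal.conj_mem _ hx.2.1 g, fun h => hx.2.2 ?_⟩
    have : g * ⁅x.1, x.2⁆ * g⁻¹ = 1 := by rw [← h]; simp only [commutatorElement_def]; group
    exact conj_eq_one_iff.1 this
  letI : MulAction G P :=
    { smul := fun g x => ⟨(g * x.1.1 * g⁻¹, g * x.1.2 * g⁻¹), hconj g x.1 x.2⟩
      one_smul := fun x => Subtype.ext (Prod.ext (by simp [HSMul.hSMul]) (by simp [HSMul.hSMul]))
      mul_smul := fun g h x => Subtype.ext (Prod.ext (by simp [HSMul.hSMul, mul_assoc]) (by simp [HSMul.hSMul, mul_assoc])) }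
  have hstab : ∀ x : P, MulAction.stabilizer G x = centralizer (R : Set G) := by
    intro x
    have hx := x.2
    simp only [hP, Finset.mem_filter, Finset.mem_univ, true_and] at hx
    have hgen : Subgroup.closure {x.1.1, x.1.2} = R := by
      have hle : Subgroup.closure {x.1.1, x.1.2} ≤ R := (closure_le R).2 (by
        rintro y (rfl | rfl)
        · exact hx.1
        · exact hx.2.1)
      refine eq_of_le_of_card_ge hle (h8'.le.trans (big _ hle
        ⟨_, subset_closure (Set.mem_insert _ _), _, subset_closure (Set.mem_insert_of_mem _ rfl), hx.2.2⟩))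
    ext g
    rw [MulAction.mem_stabilizer_iff]
    constructor
    · intro h
      have h1 : g * x.1.1 * g⁻¹ = x.1.1 := congrArg (fun y : P => y.1.1) h
      have h2 : g * x.1.2 * g⁻¹ = x.1.2 := congrArg (fun y : P => y.1.2) h
      rw [← hgen, centralizer_closure, mem_centralizer_iff]
      rintro y (rfl | rfl)
      · exact (mul_inv_eq_iff_eq_mul.1 h1).symm
      · exact (mul_inv_eq_iff_eq_mul.1 h2).symm
    · intro h
      have h1 := mem_centralizer_iff.1 h _ hx.1
      have h2 := mem_centralizer_iff.1 h _ hx.2.1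
      refine Subtype.ext (Prod.ext ?_ ?_)
      · show g * x.1.1 * g⁻¹ = x.1.1
        rw [← h1, mul_inv_cancel_right]
      · show g * x.1.2 * g⁻¹ = x.1.2
        rw [← h2, mul_inv_cancel_right]
  have hsum := Nat.card_congr (MulAction.selfEquivSigmaOrbitsQuotientStabilizer G P)
  rw [Nat.card_eq_fintype_card, Fintype.card_coe, hP24, Nat.card_sigma] at hsum
  rw [hsum]
  refine Finset.dvd_sum fun o _ => ?_
  rw [Subgroup.index, hstab]

end Cfsg.Agent.TransLin
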