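/-
Huppert's theorem: a solvable linear group transitive on nonzero vectors is semilinear, up to six orders.
-/
import Cfsg.Agent.Lib.Solvable.TransLinear.TwoCase
import Cfsg.Agent.Lib.Solvable.Fitting

set_option autoImplicit false
set_option linter.style.haveILetI false
set_option linter.unusedSectionVars false

namespace Cfsg.Agent.TransLin

open scoped commutatorElement
open Subgroup

universe u v

variable {G : Type u} {V : Type v} [Group G] [AddCommGroup V] [DistribMulAction G V] {q : ℕ}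

/-- A normal subgroup meeting the Fitting subgroup in a central subgroup equals it. -/
theorem le_of_inf_fitting [Finite G] [Group.IsSolvable G] {N A : Subgroup G} (hN : N.Normal) (hA : A.Normal)
    (hAN : A ≤ N) (hcen : ∀ a ∈ A, ∀ n ∈ N, a * n = n * a) (h : N ⊓ Cfsg.fittingSubgroup G ≤ A) : N ≤ A := by
  by_contra hne
  obtain ⟨M, -, ⟨hMn, hMN, hMA⟩, hmin⟩ := Finite.exists_le_minimal
    (p := fun K : Subgroup G => K.Normal ∧ K ≤ N ∧ ¬ K ≤ A) ⟨hN, le_rfl, hne⟩
  haveI := hMn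
  have hlt : ⁅M, M⁆ < M := Group.IsSolvable.commutator_lt_of_ne_bot (fun e => hMA (e ▸ bot_le))
  have hc : ⁅M, M⁆ ≤ A := by
    by_contra hc
    exact hlt.not_ge (hmin ⟨inferInstance, hlt.le.trans hMN, hc⟩ hlt.le)
  refine hMA fun x hx => h ⟨hMN hx, le_sSup (show M ∈ {N : Subgroup G | N.Normal ∧ Group.IsNilpotent N} from
    ⟨hMn, ?_⟩) hx⟩
  refine Subgroup.isNilpotent_of_ker_le_center (Abelianization.of (G := M)) ?_
  rw [Abelianization.ker_of]
  intro y hy
  rw [Subgroup.mem_center_iff]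
  intro w
  have hyA : (y : G) ∈ A := hc (by rw [← Subgroup.map_subtype_commutator]; exact ⟨y, hy, rfl⟩)
  exact Subtype.ext (hcen _ hyA _ (hMN w.2)).symm

theorem two_le_bound {q d e : ℕ} (hq : 2 ≤ q) (hd : 0 < d) (he : 2 ≤ e)
    (h : q ^ (d * e) - 1 ≤ (q ^ d - 1) * d) : False := by
  have h1 : q ^ (d * 2) ≤ q ^ (d * e) := Nat.pow_le_pow_right (by omega) (Nat.mul_le_mul_left _ he)
  rw [pow_mul, pow_two] at h1
  have h2 : d < q ^ d := Nat.lt_pow_self (by omega)
  obtain ⟨k, hk⟩ : ∃ k, q ^ d = k + 2 := ⟨q ^ d - 2, by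
    have : q ≤ q ^ d := Nat.le_self_pow (by omega) q
    omega⟩
  rw [hk] at h h1 h2
  rw [show k + 2 - 1 = k + 1 by omega] at h
  have : (k + 2) * (k + 2) ≤ (k + 1) * d + 1 := by omega
  nlinarith

theorem quaternion_num {q d e : ℕ} (hq : q.Prime) (hq2 : q ≠ 2) (hd : 0 < d) (he : 2 ≤ e)
    (h : q ^ (d * e) - 1 ∣ 24 * ((q ^ d - 1) * d)) : q ^ (d * e) ∈ ({9, 25, 49, 81, 121, 529} : Set ℕ) := by
  have hq3 : 3 ≤ q := by have := hq.two_le; omega
  have hd0 : q ≤ q ^ d := Nat.le_self_pow (by omega) q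
  have hpos : 0 < 24 * ((q ^ d - 1) * d) := by
    have : 0 < q ^ d - 1 := by omega
    positivity
  have hle := Nat.le_of_dvd hpos h
  have h1 : q ^ (d * 2) ≤ q ^ (d * e) := Nat.pow_le_pow_right (by omega) (Nat.mul_le_mul_left _ he)
  rw [pow_mul, pow_two] at h1
  obtain ⟨k, hk⟩ : ∃ k, q ^ d = k + 2 := ⟨q ^ d - 2, by omega⟩
  have hqd : q ^ d + 1 ≤ 24 * d := by
    rw [hk] at h1 hle ⊢
    rw [show k + 2 - 1 = k + 1 by omega] at hle
    have h4 : (k + 2) * (k + 2) ≤ 24 * ((k + 1) * d) + 1 := by omega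
    by_contra hc
    push Not at hc
    have h5 : 24 * d ≤ k + 2 := by omega
    nlinarith
  have hd4 : d ≤ 4 := by
    by_contra hc
    obtain ⟨b, rfl⟩ : ∃ b, d = b + 5 := ⟨d - 5, by omega⟩
    have h3 : 3 ^ (b + 5) ≤ q ^ (b + 5) := Nat.pow_le_pow_left hq3 _
    have h4 : 24 * (b + 5) < 3 ^ (b + 5) := by
      clear * -
      induction b with
      | zero => norm_num
      | succ b ih => rw [show b + 1 + 5 = b + 5 + 1 by omega, pow_succ]; omega
    omega
  have hqb : q ≤ 23 := by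
    rcases Nat.lt_or_ge d 2 with hd2 | hd2
    · obtain rfl : d = 1 := by omega
      rw [pow_one] at hqd; omega
    · have : q * q ≤ q ^ d := by rw [← pow_two]; exact Nat.pow_le_pow_right (by omega) hd2
      nlinarith
  have heb : e < 5 := by
    by_contra hc
    have h5 : q ^ (d * 5) ≤ q ^ (d * e) := Nat.pow_le_pow_right (by omega) (Nat.mul_le_mul_left _ (by omega))
    rw [pow_mul] at h5
    have h6 : (k + 2) ^ 5 ≤ 24 * ((k + 1) * 4) + 1 := by
      have : (k + 1) * d ≤ (k + 1) * 4 := Nat.mul_le_mul_left _ hd4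
      rw [hk] at h5 hle
      rw [show k + 2 - 1 = k + 1 by omega] at hle
      omega
    have h7 : 3 * 3 * 3 * (k + 2) ≤ (k + 2) * (k + 2) * (k + 2) * (k + 2) := by
      refine Nat.mul_le_mul_right _ (Nat.mul_le_mul (Nat.mul_le_mul ?_ ?_) ?_) <;> omega
    have h8 : (k + 2) ^ 5 = (k + 2) * (k + 2) * (k + 2) * (k + 2) * (k + 2) := by ring
    rw [h8] at h6
    nlinarith
  interval_cases d <;> interval_cases q <;> first
    | exact absurd rfl hq2
    | (revert hq; decide)
    | omega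
    | (interval_cases e <;> first | (norm_num at h; done) | (norm_num at hle; done) | norm_num)

variable (S : Setup G V q) [Finite G] [Finite V]
include S

/-- A self-centralising abelian normal subgroup of a solvable transitive group gives semilinearity. -/
theorem Setup.semilinear {A : Subgroup G} (hA : A.Normal) (hc : ∀ a ∈ A, ∀ b ∈ A, a * b = b * a)
    (hself : centralizer (A : Set G) ≤ A) :
    ∃ (F : Type) (_ : Field F) (_ : Fintype F) (e : V ≃+ F),
      ∀ g : G, ∃ (a : F) (σ : F ≃+* F), ∀ v : V, e (g • v) = a * σ (e v) := by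
  classical
  obtain ⟨d, e, hd, he, hV, hK, -, hbound, hone⟩ := S.field_card hA hc
  have hAc : A ≤ centralizer (A : Set G) := fun a ha => mem_centralizer_iff.2 fun b hb => hc b hb a ha
  have hG := hbound ⊤ (by rw [normalizer_eq_top_iff.2 hA]) (by rw [top_inf_eq]; exact le_antisymm hself hAc)
  rw [Subgroup.card_top] at hG
  have hd0 : q ≤ q ^ d := Nat.le_self_pow (by omega) q
  have hq2 := S.prime.two_le
  have hdiv := S.card_orbit_dvd.trans hG
  rw [hV] at hdiv
  have hpos : 0 < (q ^ d - 1) * d := Nat.mul_pos (by omega) hd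
  obtain rfl : e = 1 := by
    by_contra h1
    exact two_le_bound hq2 hd (by omega) (Nat.le_of_dvd hpos hdiv)
  obtain ⟨v₀, hv₀⟩ := S.nontriv
  letI := S.field hA hc
  haveI := S.finite_ring A
  haveI := Fintype.ofFinite (ringOf V A)
  haveI := Fact.mk S.prime
  haveI : Fintype (GaloisField q d) := Fintype.ofFinite _
  have hF : Fintype.card (ringOf V A) = Fintype.card (GaloisField q d) := by
    rw [← Nat.card_eq_fintype_card, ← Nat.card_eq_fintype_card, hK, GaloisField.card q d (by omega)]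
  let r : ringOf V A ≃+* GaloisField q d := FiniteField.ringEquivOfCardEq hF
  let φ : ringOf V A →+ V :=
    { toFun := fun k => (k : AddMonoid.End V) v₀
      map_zero' := rfl
      map_add' := fun _ _ => rfl }
  have hφ : Function.Bijective φ := by
    refine ⟨(injective_iff_map_eq_zero φ).2 fun k hk => ?_, fun w => ?_⟩
    · by_contra hk0
      exact hv₀ (S.injective hA hc k.2 (fun h => hk0 (Subtype.ext h)) hk)
    · obtain ⟨k, hk, he⟩ := hone rfl v₀ hv₀ w
      exact ⟨⟨k, hk⟩, he⟩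
  let ev : V ≃+ GaloisField q d := (AddEquiv.ofBijective φ hφ).symm.trans r.toAddEquiv
  refine ⟨GaloisField q d, inferInstance, inferInstance, ev, fun g => ?_⟩
  obtain ⟨k₀, hk₀⟩ := hφ.2 (g • v₀)
  have hinv : tau V g⁻¹ * tau V g = 1 := by rw [← map_mul, inv_mul_cancel, map_one]
  let σ₀ : ringOf V A ≃+* ringOf V A :=
    { toFun := fun k => ⟨tau V g * k * tau V g⁻¹, conj_mem hA g k.2⟩
      invFun := fun k => ⟨tau V g⁻¹ * k * tau V g⁻¹⁻¹, conj_mem hA g⁻¹ k.2⟩
      left_inv := fun k => Subtype.ext (by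
        show tau V g⁻¹ * (tau V g * k * tau V g⁻¹) * tau V g⁻¹⁻¹ = k
        rw [inv_inv, ← mul_assoc, ← mul_assoc, hinv, one_mul, mul_assoc, hinv, mul_one])
      right_inv := fun k => Subtype.ext (by
        have h2 : tau V g * tau V g⁻¹ = 1 := by rw [← map_mul, mul_inv_cancel, map_one]
        show tau V g * (tau V g⁻¹ * k * tau V g⁻¹⁻¹) * tau V g⁻¹ = k
        rw [inv_inv, ← mul_assoc, ← mul_assoc, h2, one_mul, mul_assoc, h2, mul_one])
      map_mul' := fun x y => Subtype.ext (by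
        show tau V g * (x * y : AddMonoid.End V) * tau V g⁻¹ =
          (tau V g * x * tau V g⁻¹) * (tau V g * y * tau V g⁻¹)
        simp only [mul_assoc]
        rw [← mul_assoc (tau V g⁻¹), hinv, one_mul])
      map_add' := fun x y => Subtype.ext (by
        show tau V g * (x + y : AddMonoid.End V) * tau V g⁻¹ = _
        rw [mul_add, add_mul]; rfl) }
  refine ⟨r k₀, (r.symm.trans σ₀).trans r, fun v => ?_⟩
  obtain ⟨k, rfl⟩ := hφ.2 v
  have e1 : g • φ k = φ (σ₀ k * k₀) := by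
    show g • (k : AddMonoid.End V) v₀ = (tau V g * k * tau V g⁻¹) ((k₀ : AddMonoid.End V) v₀)
    rw [show (k₀ : AddMonoid.End V) v₀ = g • v₀ from hk₀]
    show g • (k : AddMonoid.End V) v₀ = g • (k : AddMonoid.End V) (g⁻¹ • g • v₀)
    rw [inv_smul_smul]
  have e2 : ∀ k, ev (φ k) = r k := fun k =>
    congrArg r ((AddEquiv.ofBijective φ hφ).symm_apply_apply k)
  rw [e1, e2, e2, map_mul, mul_comm (r (σ₀ k))]
  show r k₀ * r (σ₀ k) = r k₀ * r (σ₀ (r.symm (r k)))
  rw [RingEquiv.symm_apply_apply]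

theorem huppert [Group.IsSolvable G] :
    (∃ (F : Type) (_ : Field F) (_ : Fintype F) (e : V ≃+ F),
      ∀ g : G, ∃ (a : F) (σ : F ≃+* F), ∀ v : V, e (g • v) = a * σ (e v)) ∨
    Nat.card V ∈ ({9, 25, 49, 121, 529, 81} : Set ℕ) := by
  classical
  haveI hFn : (Cfsg.fittingSubgroup G).Normal := Subgroup.sSup_normal _ (fun _ h => h.1)
  have hFnil := FittingCores.fitting_nilpotent (G := G)
  have hcyc : ∀ A : Subgroup G, A.Normal → (∀ a ∈ A, ∀ b ∈ A, a * b = b * a) → IsCyclic A :=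
    fun A hA hc => S.isCyclic hA hc
  by_cases hES : ∃ p, ∃ R : Subgroup G, ES p R ∧ R ≤ Cfsg.fittingSubgroup G
  swap
  · left
    rcases exists_self_centralizing_or_es hcyc hFn hFnil with ⟨A, hA, hc, hAF, hmax⟩ | h
    swap
    · exact absurd h hES
    refine S.semilinear hA hc ?_
    haveI := hA
    refine le_of_inf_fitting inferInstance hA
      (fun a ha => mem_centralizer_iff.2 fun b hb => hc b hb a ha)
      (fun a ha n hn => mem_centralizer_iff.1 hn a ha) fun x hx => ?_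
    exact hmax x hx.2 fun a ha => mem_centralizer_iff.1 hx.1 a ha
  right
  obtain ⟨p, R₀, hR₀, hR₀F⟩ := hES
  obtain rfl := hR₀.eq_two S
  obtain ⟨R, -, ⟨hR, hRF⟩, hmaxR⟩ := Finite.exists_le_maximal
    (p := fun K : Subgroup G => ES 2 K ∧ K ≤ Cfsg.fittingSubgroup G) (a := R₀) ⟨hR₀, hR₀F⟩
  rcases hR.two_cases S with hsmall | hreg
  · simp only [Set.mem_insert_iff, Set.mem_singleton_iff] at hsmall ⊢
    omega
  have h24 := hR.quaternion S hreg
  haveI := hR.normal
  set C := centralizer (R : Set G) with hC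
  set T := C ⊓ Cfsg.fittingSubgroup G with hT
  have hTnil : Group.IsNilpotent T :=
    haveI := hFnil
    Group.nilpotent_of_mulEquiv (Subgroup.subgroupOfEquivOfLe (inf_le_right : T ≤ Cfsg.fittingSubgroup G))
  rcases exists_self_centralizing_or_es hcyc (inferInstance : T.Normal) hTnil with ⟨A, hA, hc, hAT, hmax⟩ | hES2
  swap
  · exfalso
    obtain ⟨p, R', hR', hR'T⟩ := hES2
    obtain rfl := hR'.eq_two S
    haveI := hR'.normal
    have hcom : ∀ r ∈ R, ∀ s ∈ R', r * s = s * r := fun r hr s hs => mem_centralizer_iff.1 (hR'T hs).1 r hr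
    have hsup : ∀ x ∈ R ⊔ R', ∃ a ∈ R, ∃ b ∈ R', x = a * b := fun x hx => by
      obtain ⟨a, ha, b, hb, rfl⟩ := mem_sup_of_normal_right.1 hx
      exact ⟨a, ha, b, hb, rfl⟩
    have hcomm : ∀ a ∈ R, ∀ b ∈ R', ∀ c ∈ R, ∀ d ∈ R', ⁅a * b, c * d⁆ = ⁅a, c⁆ * ⁅b, d⁆ := by
      intro a ha b hb c hc d hd
      have e1 : Commute b c := (hcom c hc b hb).symm
      have e2 : Commute d a := (hcom a ha d hd).symm
      have e3 : Commute (b * d * b⁻¹ * d⁻¹) c⁻¹ := (hcom _ (R.inv_mem hc) _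
        (R'.mul_mem (R'.mul_mem (R'.mul_mem hb hd) (R'.inv_mem hb)) (R'.inv_mem hd))).symm
      have e4 : Commute (b * d * b⁻¹) a⁻¹ := (hcom _ (R.inv_mem ha) _
        (R'.mul_mem (R'.mul_mem hb hd) (R'.inv_mem hb))).symm
      simp only [commutatorElement_def, mul_inv_rev]
      calc a * b * (c * d) * (b⁻¹ * a⁻¹) * (d⁻¹ * c⁻¹)
          = a * (b * c) * d * b⁻¹ * a⁻¹ * d⁻¹ * c⁻¹ := by simp only [mul_assoc]
        _ = a * c * (b * d * b⁻¹ * a⁻¹) * d⁻¹ * c⁻¹ := by rw [e1.eq]; simp only [mul_assoc]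
        _ = a * c * a⁻¹ * ((b * d * b⁻¹ * d⁻¹) * c⁻¹) := by rw [e4.eq]; simp only [mul_assoc]
        _ = _ := by rw [e3.eq]; simp only [mul_assoc]
    have hES' : ES 2 (R ⊔ R') := by
      refine ⟨Nat.prime_two, inferInstance, ?_, ?_, ?_, ?_⟩
      · obtain ⟨r, hr, s, hs, h⟩ := hR.nonab
        exact ⟨r, mem_sup_left hr, s, mem_sup_left hs, h⟩
      · intro x hx
        obtain ⟨a, ha, b, hb, rfl⟩ := hsup x hx
        rw [(show Commute a b from hcom a ha b hb).mul_pow, hR.exp a ha, hR'.exp b hb, one_mul]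
      · intro x hx y hy
        obtain ⟨a, ha, b, hb, rfl⟩ := hsup x hx
        obtain ⟨c, hc', d, hd, rfl⟩ := hsup y hy
        rw [hcomm a ha b hb c hc' d hd, (show Commute ⁅a, c⁆ ⁅b, d⁆ from
          hcom _ (hR.comm_mem ha hc').1 _ (hR'.comm_mem hb hd).1).mul_pow, hR.cpow a ha c hc', hR'.cpow b hb d hd,
          one_mul]
      · intro x hx y hy w hw
        obtain ⟨a, ha, b, hb, rfl⟩ := hsup x hx
        obtain ⟨c, hc', d, hd, rfl⟩ := hsup y hy
        obtain ⟨s, hs, s', hs', rfl⟩ := hsup w hw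
        rw [hcomm a ha b hb c hc' d hd]
        have f1 : Commute s ⁅a, c⁆ := hR.ccomm a ha c hc' s hs
        have f2 : Commute s' ⁅b, d⁆ := hR'.ccomm b hb d hd s' hs'
        have f3 : Commute s ⁅b, d⁆ := hcom s hs _ (hR'.comm_mem hb hd).1
        have f4 : Commute s' ⁅a, c⁆ := (hcom _ (hR.comm_mem ha hc').1 s' hs').symm
        exact ((f1.mul_right f3).mul_left (f4.mul_right f2)).eq
    have hle : R' ≤ R := le_trans le_sup_right
      (hmaxR (y := R ⊔ R') ⟨hES', sup_le hRF (hR'T.trans inf_le_right)⟩ le_sup_left)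
    obtain ⟨r, hr, s, hs, h⟩ := hR'.nonab
    exact h (commutatorElement_eq_one_iff_mul_comm.2 (hcom r (hle hr) s hs))
  haveI := hA
  obtain ⟨d, e, hd, he, hV, -, -, hbound, hone⟩ := S.field_card hA hc
  have hCA : C ⊓ centralizer (A : Set G) = A := by
    refine le_antisymm (le_of_inf_fitting inferInstance hA ?_ (fun a ha n hn => mem_centralizer_iff.1 hn.2 a ha)
      fun x hx => hmax x ⟨hx.1.1, hx.2⟩ fun a ha => mem_centralizer_iff.1 hx.1.2 a ha)
      fun a ha => ⟨(hAT ha).1, mem_centralizer_iff.2 fun b hb => hc b hb a ha⟩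
    exact fun a ha => ⟨(hAT ha).1, mem_centralizer_iff.2 fun b hb => hc b hb a ha⟩
  have hG : Nat.card G ∣ 24 * ((q ^ d - 1) * d) := by
    rw [← C.card_mul_index, mul_comm]
    exact Nat.mul_dvd_mul h24 (hbound C (by rw [normalizer_eq_top_iff.2 hA]; exact le_top) hCA)
  have hdiv := S.card_orbit_dvd.trans hG
  rw [hV] at hdiv ⊢
  have he2 : 2 ≤ e := by
    by_contra h1
    obtain ⟨r, hr, s, hs, hrs⟩ := hR.nonab
    obtain ⟨v₀, hv₀⟩ := S.nontriv
    refine hrs (commutatorElement_eq_one_iff_mul_comm.2 (S.tau_injective ?_))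
    rw [map_mul, map_mul]
    refine DFunLike.ext _ _ fun w => ?_
    obtain ⟨k, hk, rfl⟩ := hone (by omega) v₀ hv₀ w
    have hAR : ∀ r ∈ R, ∀ a ∈ A, a * r = r * a := fun r hr a ha => (mem_centralizer_iff.1 (hAT ha).1 r hr).symm
    obtain ⟨kr, hkr, her⟩ := hone (by omega) v₀ hv₀ (r • v₀)
    obtain ⟨ks, hks, hes⟩ := hone (by omega) v₀ hv₀ (s • v₀)
    show r • s • k v₀ = s • r • k v₀
    rw [← ringOf_smul_comm (hAR s hs) hk, ← hes, ← ringOf_smul_comm (hAR r hr) hk, ← ringOf_smul_comm (hAR r hr) hks,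
      ← her, ← ringOf_smul_comm (hAR r hr) hk, ← her, ← ringOf_smul_comm (hAR s hs) hk, ← ringOf_smul_comm (hAR s hs) hkr,
      ← hes]
    show k (ks (kr v₀)) = k ((kr * ks) v₀)
    rw [commutative_ringOf hc hkr hks]
    rfl
  have := quaternion_num S.prime (fun h => by have := hR.prime_ne S; omega) hd he2 hdiv
  simp only [Set.mem_insert_iff, Set.mem_singleton_iff] at this ⊢
  omega

end Cfsg.Agent.TransLin
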