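/-
Solvable groups of automorphisms of an elementary abelian group transitive on its subgroups of each order.
-/
import Cfsg.Prelude.Def_Perm
import Cfsg.Agent.S3360
import Cfsg.Agent.Lib.Solvable.Hall
import Cfsg.Agent.Lib.Solvable.Fitting
import Mathlib.Algebra.Module.ZMod
import Mathlib.GroupTheory.Solvable
import Mathlib.FieldTheory.Galois.Basic
import Mathlib.FieldTheory.Finite.GaloisField
import Mathlib.GroupTheory.Complement

set_option autoImplicit false
set_option linter.style.haveILetI false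
set_option linter.unusedSectionVars false

namespace Cfsg.Agent.SubspaceTrans

open Subgroup

universe u

/-! ### Semilinear maps of a finite field -/

theorem card_ringAut (p n : ℕ) [Fact p.Prime] (hn : n ≠ 0) :
    Nat.card (GaloisField p n ≃+* GaloisField p n) = n := by
  have e : (GaloisField p n ≃+* GaloisField p n) ≃ (GaloisField p n ≃ₐ[ZMod p] GaloisField p n) :=
    { toFun := fun f => AlgEquiv.ofRingEquiv (f := f) fun x =>
        RingHom.congr_fun (Subsingleton.elim (f.toRingHom.comp (algebraMap (ZMod p) (GaloisField p n)))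
          (algebraMap (ZMod p) (GaloisField p n))) x
      invFun := fun f => f.toRingEquiv
      left_inv := fun f => RingEquiv.ext fun _ => rfl
      right_inv := fun f => AlgEquiv.ext fun _ => rfl }
  rw [Nat.card_congr e, IsGalois.card_aut_eq_finrank, GaloisField.finrank p hn]

theorem semiaffine_unique {F : Type*} [Field F] {a a' : Fˣ} {b b' : F} {φ φ' : F ≃+* F}
    (h : ∀ x, (a : F) * φ x + b = (a' : F) * φ' x + b') : a = a' ∧ b = b' ∧ φ = φ' := by
  have hb : b = b' := by simpa using h 0
  subst hb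
  have ha : a = a' := Units.ext (by simpa using h 1)
  subst ha
  exact ⟨rfl, rfl, RingEquiv.ext fun x => mul_left_cancel₀ a.ne_zero (add_right_cancel (h x))⟩

theorem card_semiaffine (p n : ℕ) [Fact p.Prime] (hn : n ≠ 0) :
    Nat.card (Cfsg.semiaffineGroup (GaloisField p n)) = (p ^ n - 1) * p ^ n * n := by
  classical
  let F := GaloisField p n
  let f : Fˣ × F × (F ≃+* F) → Cfsg.semiaffineGroup F := fun t =>
    ⟨((t.2.2 : F ≃ F).trans (Units.mulLeft t.1)).trans (Equiv.addRight t.2.1),
      t.1, t.2.1, t.2.2, fun x => rfl⟩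
  have hf : Function.Bijective f := by
    constructor
    · rintro ⟨a, b, φ⟩ ⟨a', b', φ'⟩ h
      obtain ⟨h1, h2, h3⟩ := semiaffine_unique (a := a) (a' := a') (b := b) (b' := b') (φ := φ) (φ' := φ')
        fun x => Equiv.ext_iff.1 (congrArg Subtype.val h) x
      rw [h1, h2, h3]
    · rintro ⟨σ, a, b, φ, hσ⟩
      exact ⟨(a, b, φ), Subtype.ext (Equiv.ext fun x => (hσ x).symm)⟩
  rw [← Nat.card_eq_of_bijective f hf, Nat.card_prod, Nat.card_prod, Nat.card_units, GaloisField.card p n hn,
    card_ringAut p n hn, mul_assoc]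

theorem card_stabilizer_zero (p n : ℕ) [Fact p.Prime] (hn : n ≠ 0) :
    Nat.card (Cfsg.semiaffineGroup (GaloisField p n) ⊓ MulAction.stabilizer (Equiv.Perm (GaloisField p n))
      (0 : GaloisField p n) : Subgroup _) = (p ^ n - 1) * n := by
  classical
  let F := GaloisField p n
  let f : Fˣ × (F ≃+* F) → (Cfsg.semiaffineGroup F ⊓ MulAction.stabilizer (Equiv.Perm F) (0 : F) : Subgroup _) :=
    fun t => ⟨(t.2 : F ≃ F).trans (Units.mulLeft t.1), ⟨t.1, 0, t.2, fun x => (add_zero _).symm⟩, by
      show (t.1 : F) * t.2 0 = 0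
      rw [map_zero, mul_zero]⟩
  have hf : Function.Bijective f := by
    constructor
    · rintro ⟨a, φ⟩ ⟨a', φ'⟩ h
      obtain ⟨h1, -, h3⟩ := semiaffine_unique (a := a) (a' := a') (b := (0 : F)) (b' := 0) (φ := φ) (φ' := φ')
        fun x => congrArg (· + (0 : F)) (Equiv.ext_iff.1 (congrArg Subtype.val h) x)
      rw [h1, h3]
    · rintro ⟨σ, ⟨a, b, φ, hσ⟩, h0⟩
      have hb : b = 0 := by
        have h1 : σ 0 = 0 := h0
        rw [hσ 0, map_zero, mul_zero, zero_add] at h1
        exact h1
      exact ⟨(a, φ), Subtype.ext (Equiv.ext fun x => by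
        show (a : F) * φ x = σ x
        rw [hσ x, hb, add_zero])⟩
  rw [← Nat.card_eq_of_bijective f hf, Nat.card_prod, Nat.card_units, GaloisField.card p n hn, card_ringAut p n hn]

/-! ### Arithmetic -/

theorem dim_cases {p n c : ℕ} (hp : p.Prime) (hn : 3 ≤ n)
    (hc : c * ((p ^ 2 - 1) * (p ^ 2 - p)) = (p ^ n - 1) * (p ^ n - p))
    (hd : c * (p - 1) ∣ (p ^ n - 1) * n) : n = 3 ∨ (n = 5 ∧ p = 2) := by
  have hp2 := hp.two_le
  obtain ⟨r, rfl⟩ : ∃ r, p = r + 1 := ⟨p - 1, by omega⟩
  have hr : 1 ≤ r := by omega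
  have e1 : ((r + 1) ^ 2 - (r + 1)) = (r + 1) * r := by
    rw [show (r + 1) ^ 2 = (r + 1) * r + (r + 1) by ring]; omega
  have e2 : (r + 1) ^ 2 - 1 = r * (r + 2) := by
    rw [show (r + 1) ^ 2 = r * (r + 2) + 1 by ring]; omega
  rw [e1, e2] at hc
  rw [Nat.add_sub_cancel] at hd
  rcases Nat.lt_or_ge n 4 with h4 | h4
  · left; omega
  rcases Nat.lt_or_ge n 6 with h6 | h6
  · interval_cases n
    · exfalso
      have e4 : (r + 1) ^ 4 - 1 = r * (r + 2) * ((r + 1) * (r + 1) + 1) := by
        rw [show (r + 1) ^ 4 = r * (r + 2) * ((r + 1) * (r + 1) + 1) + 1 by ring]; omega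
      have e3 : (r + 1) ^ 4 - (r + 1) = (r + 1) * (r * ((r + 1) * (r + 1) + r + 2)) := by
        rw [show (r + 1) ^ 4 = (r + 1) * (r * ((r + 1) * (r + 1) + r + 2)) + (r + 1) by ring]; omega
      rw [e4, e3] at hc
      rw [e4] at hd
      have hc' : c = ((r + 1) * (r + 1) + 1) * ((r + 1) * (r + 1) + r + 2) :=
        Nat.eq_of_mul_eq_mul_right (show 0 < r * (r + 2) * ((r + 1) * r) by positivity) (by rw [hc]; ring)
      subst hc'
      have h7 : (r + 1) * (r + 1) + r + 2 ∣ (r + 2) * 4 := by
        refine Nat.dvd_of_mul_dvd_mul_left (show 0 < ((r + 1) * (r + 1) + 1) * r by positivity) ?_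
        convert hd using 1 <;> ring
      have := Nat.le_of_dvd (by omega) h7
      have : r ≤ 2 := by
        by_contra hh
        nlinarith
      interval_cases r <;> norm_num at h7
    · right
      refine ⟨rfl, ?_⟩
      have e3 : (r + 1) ^ 5 - (r + 1) = (r + 1) * (r * (r + 2) * ((r + 1) * (r + 1) + 1)) := by
        rw [show (r + 1) ^ 5 = (r + 1) * (r * (r + 2) * ((r + 1) * (r + 1) + 1)) + (r + 1) by ring]; omega
      rw [e3] at hc
      have hA : 0 < (r + 1) ^ 5 - 1 := Nat.sub_pos_of_lt (Nat.one_lt_pow (by norm_num) (by omega))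
      set A := (r + 1) ^ 5 - 1
      have hcA : c * r = A * ((r + 1) * (r + 1) + 1) :=
        Nat.eq_of_mul_eq_mul_right (show 0 < r * (r + 2) * (r + 1) by positivity) (by
          calc c * r * (r * (r + 2) * (r + 1)) = c * (r * (r + 2) * ((r + 1) * r)) := by ring
            _ = _ := by rw [hc]; ring)
      rw [hcA] at hd
      have h5 := Nat.le_of_dvd (by norm_num) (Nat.dvd_of_mul_dvd_mul_left hA hd)
      nlinarith
  · exfalso
    have hpos : 0 < (r + 1) ^ n - 1 := Nat.sub_pos_of_lt (Nat.one_lt_pow (by omega) (by omega))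
    have hle := Nat.le_of_dvd (Nat.mul_pos hpos (by omega)) hd
    obtain ⟨m, rfl⟩ : ∃ m, n = m + 1 := ⟨n - 1, by omega⟩
    set A := (r + 1) ^ (m + 1) - 1 with hAdef
    have e3 : (r + 1) ^ (m + 1) - (r + 1) = (r + 1) * ((r + 1) ^ m - 1) := by
      rw [pow_succ', Nat.mul_sub, mul_one]
    rw [e3] at hc
    have h1 : A * ((r + 1) * ((r + 1) ^ m - 1)) ≤ A * ((m + 1) * (r * (r + 2) * (r + 1))) := by
      rw [← hc]
      calc c * (r * (r + 2) * ((r + 1) * r)) = c * r * (r * (r + 2) * (r + 1)) := by ring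
        _ ≤ A * (m + 1) * (r * (r + 2) * (r + 1)) := Nat.mul_le_mul_right _ hle
        _ = _ := by ring
    have h2 := Nat.le_of_mul_le_mul_left h1 hpos
    have h2' : (r + 1) * ((r + 1) ^ m - 1) ≤ (r + 1) * ((m + 1) * (r * (r + 2))) := h2.trans (le_of_eq (by ring))
    have h3 : (r + 1) ^ m - 1 ≤ (m + 1) * (r * (r + 2)) := Nat.le_of_mul_le_mul_left h2' (by omega)
    obtain ⟨k, rfl⟩ : ∃ k, m = k + 5 := ⟨m - 5, by omega⟩
    have h4 : (r + 1) ^ 2 * 2 ^ (k + 3) ≤ (r + 1) ^ (k + 5) := by
      rw [show (r + 1) ^ (k + 5) = (r + 1) ^ 2 * (r + 1) ^ (k + 3) by rw [← pow_add]; congr 1; omega]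
      exact Nat.mul_le_mul_left _ (Nat.pow_le_pow_left hp2 _)
    have h5 : k + 7 ≤ 2 ^ (k + 3) := by
      clear * -
      induction k with
      | zero => norm_num
      | succ k ih => rw [show k + 1 + 3 = k + 3 + 1 by omega, pow_succ]; omega
    have h6 : 1 ≤ (r + 1) ^ (k + 5) := Nat.one_le_pow _ _ (by omega)
    have h7 : (r + 1) ^ 2 * (k + 7) ≤ (r + 1) ^ 2 * 2 ^ (k + 3) := Nat.mul_le_mul_left _ h5
    have h8 : (r + 1) ^ (k + 5) ≤ (k + 5 + 1) * (r * (r + 2)) + 1 := by omega
    nlinarith

/-! ### The exceptional order -/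

/-- No solvable group of order divisible by `5` and `13` acts faithfully on a space of order `81`. -/
theorem no_five_thirteen {V : Type*} [AddCommGroup V] [Finite V] {H : Type*} [Group H] [Finite H]
    [Group.IsSolvable H] [DistribMulAction H V] [FaithfulSMul H V] (hV : Nat.card V = 81)
    (h5 : 5 ∣ Nat.card H) (h13 : 13 ∣ Nat.card H) : False := by
  classical
  haveI := Fintype.ofFinite V
  obtain ⟨a, b, hb, hab⟩ : ∃ a b, Nat.card H = a * b ∧ (∀ r, r.Prime → r ∣ a → r = 5 ∨ r = 13) ∧
      5 * 13 ∣ a ∧ a.Coprime b := by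
    refine ⟨5 ^ (Nat.card H).factorization 5 * 13 ^ (Nat.card H).factorization 13,
      Nat.card H / (5 ^ (Nat.card H).factorization 5 * 13 ^ (Nat.card H).factorization 13), ?_, ?_, ?_, ?_⟩
    · refine (Nat.mul_div_cancel' ?_).symm
      exact (Nat.Coprime.pow _ _ (by norm_num : Nat.Coprime 5 13)).mul_dvd_of_dvd_of_dvd
        (Nat.ordProj_dvd _ _) (Nat.ordProj_dvd _ _)
    · intro r hr hd
      rcases hr.dvd_mul.1 hd with h | h
      · exact Or.inl ((Nat.prime_dvd_prime_iff_eq hr (by norm_num)).1 (hr.dvd_of_dvd_pow h))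
      · exact Or.inr ((Nat.prime_dvd_prime_iff_eq hr (by norm_num)).1 (hr.dvd_of_dvd_pow h))
    · exact Nat.mul_dvd_mul
        (dvd_pow_self 5 ((Nat.Prime.factorization_pos_of_dvd (by norm_num) Nat.card_pos.ne' h5).ne'))
        (dvd_pow_self 13 ((Nat.Prime.factorization_pos_of_dvd (by norm_num) Nat.card_pos.ne' h13).ne'))
    · have hd := (Nat.Coprime.pow ((Nat.card H).factorization 5) ((Nat.card H).factorization 13)
        (by norm_num : Nat.Coprime 5 13)).mul_dvd_of_dvd_of_dvd (Nat.ordProj_dvd (Nat.card H) 5)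
        (Nat.ordProj_dvd (Nat.card H) 13)
      refine Nat.Coprime.mul_left ?_ ?_
      · refine Nat.Coprime.pow_left _ ((Nat.Prime.coprime_iff_not_dvd (by norm_num)).2 fun h => ?_)
        refine Nat.not_dvd_ordCompl (n := Nat.card H) (p := 5) (by norm_num) Nat.card_pos.ne' ?_
        exact h.trans (Nat.div_dvd_div_left hd (Dvd.intro _ rfl))
      · refine Nat.Coprime.pow_left _ ((Nat.Prime.coprime_iff_not_dvd (by norm_num)).2 fun h => ?_)
        refine Nat.not_dvd_ordCompl (n := Nat.card H) (p := 13) (by norm_num) Nat.card_pos.ne' ?_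
        exact h.trans (Nat.div_dvd_div_left hd (Dvd.intro_left _ rfl))
  obtain ⟨hprimes, h65, hcop⟩ := hab
  obtain ⟨K, hK⟩ := HallSolv.exists_hall hb hcop
  haveI : Fact (Nat.Prime 5) := ⟨by norm_num⟩
  haveI : Fact (Nat.Prime 13) := ⟨by norm_num⟩
  obtain ⟨x, hx⟩ := exists_prime_orderOf_dvd_card' (G := K) 13
    (hK.symm ▸ (Nat.dvd_trans (Dvd.intro_left 5 rfl) h65))
  obtain ⟨y, hy⟩ := exists_prime_orderOf_dvd_card' (G := K) 5
    (hK.symm ▸ (Nat.dvd_trans (Dvd.intro 13 rfl) h65))
  -- fixed vectors of a group of prime power order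
  have fixed : ∀ (r : ℕ) [Fact r.Prime] (L : Subgroup H), IsPGroup r L → L ≠ ⊥ →
      ∃ k, k < 4 ∧ Nat.card (MulAction.fixedPoints L V) = 3 ^ k ∧ 81 ≡ 3 ^ k [MOD r] := by
    intro r _ L hL hne
    let U : AddSubgroup V :=
      { carrier := MulAction.fixedPoints L V
        zero_mem' := fun g => smul_zero g
        add_mem' := fun {a b} ha hb g => by rw [smul_add, ha g, hb g]
        neg_mem' := fun {a} ha g => by rw [smul_neg, ha g] }
    obtain ⟨k, hk, hkc⟩ := (Nat.dvd_prime_pow (by norm_num : Nat.Prime 3)).1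
      (show Nat.card U ∣ 3 ^ 4 by rw [show 3 ^ 4 = 81 from rfl, ← hV]; exact AddSubgroup.card_addSubgroup_dvd_card U)
    refine ⟨k, lt_of_le_of_ne hk fun h => hne ?_, hkc, ?_⟩
    · subst h
      have htop : U = ⊤ := AddSubgroup.eq_top_of_card_eq U (by rw [hkc, hV]; norm_num)
      refine (Subgroup.eq_bot_iff_forall L).2 fun g hg => eq_of_smul_eq_smul fun v : V => ?_
      rw [one_smul]
      exact (htop ▸ AddSubgroup.mem_top v : v ∈ U) ⟨g, hg⟩
    · have := hL.card_modEq_card_fixedPoints V
      rw [hV, show Nat.card (MulAction.fixedPoints L V) = 3 ^ k from hkc] at this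
      exact this
  have free5 : ∀ g : H, orderOf g = 5 → ∀ v : V, g • v = v → v = 0 := by
    intro g hg v hv
    obtain ⟨k, hk, hkc, hmod⟩ := fixed 5 (zpowers g)
      (IsPGroup.of_card (n := 1) (by rw [Nat.card_zpowers, hg, pow_one])) (fun h => by
        rw [zpowers_eq_bot] at h; rw [h, orderOf_one] at hg; omega)
    have hk0 : k = 0 := by interval_cases k <;> first | rfl | simp [Nat.ModEq] at hmod
    rw [hk0, pow_zero, Nat.card_eq_one_iff_unique] at hkc
    have hv' : v ∈ MulAction.fixedPoints (zpowers g) V := fun w =>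
      (zpowers_le.2 (show g ∈ MulAction.stabilizer H v from hv)) w.2
    have h0 : (0 : V) ∈ MulAction.fixedPoints (zpowers g) V := fun w => smul_zero w
    exact congrArg Subtype.val (hkc.1.elim ⟨v, hv'⟩ ⟨0, h0⟩)
  -- a group of order a power of thirteen fixes three vectors
  have fix13 : ∀ L : Subgroup H, IsPGroup 13 L → L ≠ ⊥ → Nat.card (MulAction.fixedPoints L V) = 3 := by
    intro L hL hne
    obtain ⟨k, hk, hkc, hmod⟩ := fixed 13 L hL hne
    rw [hkc]
    interval_cases k <;> first | rfl | simp [Nat.ModEq] at hmod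
  haveI : Nontrivial K := ⟨x, 1, fun h => by rw [h, orderOf_one] at hx; omega⟩
  haveI : Group.IsSolvable (⊤ : Subgroup K) := inferInstance
  obtain ⟨M, r, hr, hMn, hM, -, -, -, hMp, -⟩ :=
    SolvBasic.exists_minimal_normal_abelian (N := (⊤ : Subgroup K)) inferInstance top_ne_bot
  haveI := Fact.mk hr
  have hra : r ∣ a := by
    obtain ⟨s, hs⟩ := hMp.exists_card_eq
    have hs0 : s ≠ 0 := fun h => hM (Subgroup.card_eq_one.1 (by rw [hs, h, pow_zero]))
    rw [← hK]
    exact (dvd_pow_self r hs0).trans (hs ▸ M.card_subgroup_dvd_card)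
  set L : Subgroup H := M.map K.subtype with hL
  have hLne : L ≠ ⊥ := fun h => hM ((Subgroup.map_eq_bot_iff_of_injective _ K.subtype_injective).1 h)
  have hLp : IsPGroup r L := hMp.map _
  -- an element fixing a set of two nonzero vectors setwise, of odd order, fixes them
  have two : ∀ (g : H) (T : Set V), Odd (orderOf g) → T.ncard = 2 → (∀ t ∈ T, g • t ∈ T) → ∀ t ∈ T, g • t = t := by
    intro g T hg hT hgT t ht
    obtain ⟨t₁, t₂, hne, rfl⟩ := Set.ncard_eq_two.1 hT
    by_contra hgt
    have hflip : g • g • t = t := by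
      have h1 := hgT t ht
      have h2 := hgT _ h1
      simp only [Set.mem_insert_iff, Set.mem_singleton_iff] at ht h1 h2
      rcases ht with rfl | rfl <;> rcases h1 with e | e <;> rcases h2 with e' | e' <;>
        first
          | exact absurd e hgt
          | exact e'
          | exact absurd (smul_left_cancel g (e'.trans e.symm)) hgt
    obtain ⟨j, hj⟩ := hg
    have : ∀ i : ℕ, g ^ (2 * i) • t = t := by
      intro i
      induction i with
      | zero => simp
      | succ i ih => rw [show 2 * (i + 1) = 2 + 2 * i by ring, pow_add, mul_smul, ih, pow_two, mul_smul, hflip]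
    have h3 : g ^ (2 * j + 1) • t = t := by rw [← hj, pow_orderOf_eq_one, one_smul]
    rw [pow_succ', mul_smul, this] at h3
    exact hgt h3
  have nz : ∀ L : Subgroup H, IsPGroup 13 L → L ≠ ⊥ → ({v : V | v ∈ MulAction.fixedPoints L V} \ {0}).ncard = 2 := by
    intro L hL hne
    have h0 : (0 : V) ∈ {v : V | v ∈ MulAction.fixedPoints L V} := fun g => smul_zero g
    rw [Set.ncard_diff_singleton_of_mem h0, ← Nat.card_coe_set_eq]
    show Nat.card (MulAction.fixedPoints L V) - 1 = 2
    rw [fix13 L hL hne]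
  rcases hprimes r hr hra with rfl | rfl
  swap
  · -- thirteen: the element of order five fixes a vector
    set T : Set V := {v : V | v ∈ MulAction.fixedPoints L V} \ {0} with hT
    have hT2 : T.ncard = 2 := nz L hLp hLne
    obtain ⟨t, ht⟩ : T.Nonempty := by
      rw [← Set.ncard_pos]; omega
    refine ht.2 (free5 (y : H) (by rw [Subgroup.orderOf_coe, hy]) t (two (y : H) T ?_ hT2 (fun s hs => ⟨?_, ?_⟩) t ht))
    · rw [Subgroup.orderOf_coe, hy]; decide
    · intro g
      obtain ⟨m, hm, hmg⟩ := g.2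
      have hc : y⁻¹ * m * y ∈ M := by
        have := hMn.conj_mem m hm y⁻¹
        rwa [inv_inv] at this
      show (g : H) • (y : H) • s = (y : H) • s
      have h1 : ((y⁻¹ * m * y : K) : H) • s = s := hs.1 ⟨_, ⟨_, hc, rfl⟩⟩
      have hmg' : (m : H) = (g : H) := hmg
      rw [← hmg', ← mul_smul]
      conv_rhs => rw [← h1, ← mul_smul]
      congr 1
      simp [mul_assoc]
    · exact fun h => hs.2 (smul_eq_zero_iff_eq (y : H) |>.1 h)
  · -- five: a free group normalised by an element of order thirteen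
    haveI := Fintype.ofFinite L
    have hfree : ∀ g : L, ∀ v : V, g • v = v → v ≠ 0 → g = 1 := by
      intro g v hgv hv
      by_contra hg1
      obtain ⟨s, hs⟩ := IsPGroup.iff_orderOf.1 hLp g
      have hs0 : s ≠ 0 := fun h => hg1 (by rwa [h, pow_zero, orderOf_eq_one_iff] at hs)
      have h5 : orderOf ((g : H) ^ 5 ^ (s - 1)) = 5 := by
        rw [orderOf_pow_of_dvd (by positivity) (by rw [Subgroup.orderOf_coe, hs]; exact pow_dvd_pow _ (by omega)),
          Subgroup.orderOf_coe, hs, Nat.pow_div (by omega) (by norm_num), show s - (s - 1) = 1 by omega, pow_one]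
      exact hv (free5 _ h5 v ((MulAction.stabilizer H v).pow_mem (show (g : H) • v = v from hgv) _))
    -- the orbit of a vector is free
    obtain ⟨s, hs⟩ := hLp.exists_card_eq
    have hLdvd : Nat.card L ∣ 80 := by
      let W : SubMulAction L V :=
        { carrier := {v | v ≠ 0}
          smul_mem' := fun g v hv h => hv (smul_eq_zero_iff_eq (g : H) |>.1 h) }
      have hW : Nat.card W = 80 := by
        show Nat.card {v : V | v ≠ 0} = 80
        rw [Nat.card_coe_set_eq, show {v : V | v ≠ 0} = {(0 : V)}ᶜ from rfl, Set.ncard_compl, hV,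
          Set.ncard_singleton]
      have hstab : ∀ w : W, MulAction.stabilizer L w = ⊥ := fun w => (Subgroup.eq_bot_iff_forall _).2 fun g hg =>
        hfree g w (congrArg Subtype.val hg) w.2
      rw [← hW, Nat.card_congr (MulAction.selfEquivSigmaOrbitsQuotientStabilizer L W)]
      haveI := Fintype.ofFinite (MulAction.orbitRel.Quotient L W)
      rw [Nat.card_sigma]
      refine Finset.dvd_sum fun o _ => ?_
      rw [← Subgroup.index, hstab, Subgroup.index_bot]
    have hs1 : s ≤ 1 := by
      by_contra h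
      rw [hs] at hLdvd
      have : 5 ^ 2 ∣ 80 := (pow_dvd_pow 5 (by omega : 2 ≤ s)).trans hLdvd
      norm_num at this
    -- the element of order thirteen centralises it
    have hMc : Nat.card M = 5 := by
      have h1 : Nat.card M = Nat.card L := (Subgroup.card_map_of_injective K.subtype_injective).symm
      have h2 : s ≠ 0 := fun h => hLne (Subgroup.card_eq_one.1 (by rw [hs, h, pow_zero]))
      rw [h1, hs, show s = 1 by omega, pow_one]
    haveI := hMn
    let cf : zpowers x →* MulAut M := (MulAut.conjNormal : K →* MulAut M).comp (zpowers x).subtype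
    have hcf : ∀ m : M, x * m * x⁻¹ = m := by
      intro m
      by_contra hne
      have h1 : orderOf (MulAut.conjNormal (H := M) x) = 13 := by
        refine orderOf_eq_prime ?_ fun h => hne ?_
        · rw [← map_pow, ← hx, pow_orderOf_eq_one, map_one]
        · have := congrArg (fun f : MulAut M => ((f m : M) : K)) h
          simpa [MulAut.conjNormal_apply] using this
      have h2 : orderOf (MulAut.conjNormal (H := M) x) ≤ Nat.card (MulAut M) := by
        haveI : Finite (MulAut M) := Finite.of_injective (fun f => (f : M → M)) DFunLike.coe_injective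
        exact Nat.le_of_dvd Nat.card_pos (orderOf_dvd_natCard _)
      haveI : IsCyclic M := isCyclic_of_prime_card hMc
      rw [h1, IsCyclic.card_mulAut, hMc, Nat.totient_prime (by norm_num)] at h2
      omega
    set T : Set V := {v : V | v ∈ MulAction.fixedPoints (zpowers (x : H)) V} \ {0} with hT
    have hT2 : T.ncard = 2 := nz _ (IsPGroup.of_card (n := 1) (by rw [Nat.card_zpowers, Subgroup.orderOf_coe, hx, pow_one]))
      (fun h => by rw [zpowers_eq_bot] at h; rw [← Subgroup.orderOf_coe, h, orderOf_one] at hx; omega)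
    obtain ⟨t, ht⟩ : T.Nonempty := by
      rw [← Set.ncard_pos]; omega
    obtain ⟨m, hm, hm1⟩ : ∃ m ∈ M, m ≠ 1 := by
      by_contra! h
      exact hM ((Subgroup.eq_bot_iff_forall M).2 h)
    have hmo : orderOf (m : H) = 5 := by
      rw [Subgroup.orderOf_coe]
      refine orderOf_eq_prime ?_ hm1
      have := congrArg Subtype.val (pow_card_eq_one' (G := M) (x := ⟨m, hm⟩))
      rwa [hMc] at this
    refine ht.2 (free5 (m : H) hmo t (two (m : H) T (by rw [hmo]; decide) hT2 (fun u hu => ⟨?_, ?_⟩) t ht))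
    · intro g
      show (g : H) • (m : H) • u = (m : H) • u
      have hxm : Commute (x : H) (m : H) := by
        have := congrArg (fun z : K => (z : H)) (hcf ⟨m, hm⟩)
        simp only [Subgroup.coe_mul, InvMemClass.coe_inv] at this
        exact mul_inv_eq_iff_eq_mul.1 this
      obtain ⟨i, hi⟩ := g.2
      have hi' : (x : H) ^ i = (g : H) := hi
      rw [← mul_smul, ← hi', (hxm.zpow_left i).eq, mul_smul,
        show ((x : H) ^ i) • u = u from hu.1 ⟨_, i, rfl⟩]
    · exact fun h => hu.2 (smul_eq_zero_iff_eq (m : H) |>.1 h)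

end Cfsg.Agent.SubspaceTrans
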