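/-
A solvable group with a self-centralising elementary abelian Sylow subgroup all of whose subgroups of equal order are
conjugate is semi-affine.
-/
import Cfsg.Agent.Lib.Solvable.TransLinear.SubspaceTrans

set_option autoImplicit false
set_option linter.style.haveILetI false
set_option linter.unusedSectionVars false

namespace Cfsg.Agent.SubspaceTrans

open Subgroup

universe u

theorem affine_model {X : Type u} [Group X] [Finite X] [Group.IsSolvable X] {p n : ℕ} [hp : Fact p.Prime]
    (hn : 3 ≤ n) (P : Subgroup X) [P.Normal] (hPab : ∀ a ∈ P, ∀ b ∈ P, a * b = b * a) (hPexp : ∀ a ∈ P, a ^ p = 1)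
    (hcard : Nat.card P = p ^ n) (hidx : (Nat.card P).Coprime P.index) (hself : centralizer (P : Set X) ≤ P)
    (htr : ∀ A B : Subgroup X, A ≤ P → B ≤ P → Nat.card A = Nat.card B →
      ∃ x : X, A.map (MulAut.conj x).toMonoidHom = B) :
    (n = 3 ∧ (∃ f : X →* Cfsg.semiaffineGroup (GaloisField p 3), Function.Injective f) ∧
      (p = 2 → Nonempty (X ≃* Cfsg.semiaffineGroup (GaloisField 2 3)) ∨
        Nonempty (X ≃* Cfsg.affineGroup (GaloisField 2 3)))) ∨
    (n = 5 ∧ p = 2 ∧ Nonempty (X ≃* Cfsg.semiaffineGroup (GaloisField 2 5))) := by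
  classical
  have hp2 := hp.out.two_le
  letI : CommGroup P := { (inferInstance : Group P) with
    mul_comm := fun a b => Subtype.ext (hPab a a.2 b b.2) }
  let V := Additive P
  letI : Module (ZMod p) V := by
    exact AddCommGroup.zmodModule (n := p) fun v => by
      show Additive.ofMul ((Additive.toMul v) ^ p) = Additive.ofMul 1
      exact congrArg Additive.ofMul (Subtype.ext (by simpa using hPexp _ (Additive.toMul v).2))
  have hVcard : Nat.card V = p ^ n := hcard
  haveI : Nontrivial V := Finite.one_lt_card_iff_nontrivial.1 (by rw [hVcard]; exact Nat.one_lt_pow (by omega) hp.out.one_lt)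
  -- conjugation
  let cj : X →* (V ≃ₗ[ZMod p] V) :=
    { toFun := fun x =>
        { toFun := fun v => Additive.ofMul (MulAut.conjNormal (H := P) x (Additive.toMul v))
          invFun := fun v => Additive.ofMul ((MulAut.conjNormal (H := P) x).symm (Additive.toMul v))
          left_inv := fun v => congrArg Additive.ofMul ((MulAut.conjNormal (H := P) x).symm_apply_apply (Additive.toMul v))
          right_inv := fun v => congrArg Additive.ofMul ((MulAut.conjNormal (H := P) x).apply_symm_apply (Additive.toMul v))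
          map_add' := fun v w => congrArg Additive.ofMul (map_mul (MulAut.conjNormal (H := P) x) (Additive.toMul v) (Additive.toMul w))
          map_smul' := fun k v => ZMod.map_smul
            (AddMonoidHom.mk' (fun v : V => Additive.ofMul (MulAut.conjNormal (H := P) x (Additive.toMul v))) fun v w =>
              congrArg Additive.ofMul (map_mul (MulAut.conjNormal (H := P) x) (Additive.toMul v) (Additive.toMul w))) k v }
      map_one' := LinearEquiv.ext fun v => by
        show Additive.ofMul (MulAut.conjNormal (H := P) 1 (Additive.toMul v)) = v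
        rw [map_one]; rfl
      map_mul' := fun a b => LinearEquiv.ext fun v => by
        show Additive.ofMul (MulAut.conjNormal (H := P) (a * b) (Additive.toMul v)) = _
        rw [map_mul]; rfl }
  have hcj : ∀ (x : X) (u : P), cj x (Additive.ofMul u) = Additive.ofMul (MulAut.conjNormal (H := P) x u) :=
    fun _ _ => rfl
  have hcjc : ∀ x : X, cj x = 1 ↔ x ∈ P := by
    intro x
    constructor
    · intro h
      refine hself (mem_centralizer_iff.2 fun u hu => ?_)
      have h1 := congrArg (fun f : V ≃ₗ[ZMod p] V => ((Additive.toMul (f (Additive.ofMul ⟨u, hu⟩)) : P) : X)) h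
      have h2 : x * u * x⁻¹ = u := h1
      exact (mul_inv_eq_iff_eq_mul.1 h2).symm
    · intro h
      refine LinearEquiv.ext fun v => congrArg Additive.ofMul (Subtype.ext ?_)
      show x * ((Additive.toMul v : P) : X) * x⁻¹ = (Additive.toMul v : P)
      rw [hPab x h _ (Additive.toMul v).2, mul_inv_cancel_right]
  let sc : (ZMod p)ˣ →* (V ≃ₗ[ZMod p] V) :=
    { toFun := fun c => LinearEquiv.smulOfUnit c
      map_one' := LinearEquiv.ext fun v => by show ((1 : (ZMod p)ˣ) : ZMod p) • v = v; rw [Units.val_one, one_smul]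
      map_mul' := fun a b => LinearEquiv.ext fun v => by
        show ((a * b : (ZMod p)ˣ) : ZMod p) • v = (a : ZMod p) • ((b : ZMod p) • v)
        rw [Units.val_mul, mul_smul] }
  have hscc : ∀ (c : (ZMod p)ˣ) (x : X), Commute (sc c) (cj x) := fun c x => LinearEquiv.ext fun v => by
    show (c : ZMod p) • cj x v = cj x ((c : ZMod p) • v)
    rw [map_smul]
  let ρ : X × (ZMod p)ˣ →* (V ≃ₗ[ZMod p] V) := cj.noncommCoprod sc fun x c => (hscc c x).symm
  haveI : Group.IsSolvable (X × (ZMod p)ˣ) := inferInstance
  let G₁ := ρ.range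
  haveI : Group.IsSolvable G₁ := Group.isSolvable_of_surjective (f := ρ.rangeRestrict) ρ.rangeRestrict_surjective
  haveI : Finite (V ≃ₗ[ZMod p] V) := Finite.of_injective (fun f => (f : V → V)) DFunLike.coe_injective
  -- transitivity on vectors
  have htv : ∀ v w : V, v ≠ 0 → w ≠ 0 → ∃ g : G₁, (g : V ≃ₗ[ZMod p] V) v = w := by
    intro v w hv hw
    have ho : ∀ v : V, v ≠ 0 → Nat.card (zpowers ((Additive.toMul v : P) : X)) = p := fun v hv => by
      rw [Nat.card_zpowers]
      exact orderOf_eq_prime (hPexp _ (Additive.toMul v).2) fun h => hv (congrArg Additive.ofMul (Subtype.ext h))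
    obtain ⟨x, hx⟩ := htr _ _ (zpowers_le.2 (Additive.toMul v).2) (zpowers_le.2 (Additive.toMul w).2)
      ((ho v hv).trans (ho w hw).symm)
    have hmem : ((Additive.toMul w : P) : X) ∈ (zpowers ((Additive.toMul v : P) : X)).map (MulAut.conj x).toMonoidHom :=
      hx.symm ▸ mem_zpowers _
    obtain ⟨-, ⟨k, rfl⟩, hk⟩ := hmem
    have hk' : (k : ZMod p) • cj x v = w := by
      rw [Int.cast_smul_eq_zsmul]
      refine congrArg Additive.ofMul (Subtype.ext ?_)
      show (((MulAut.conjNormal (H := P) x (Additive.toMul v)) ^ k : P) : X) = (Additive.toMul w : P)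
      rw [SubgroupClass.coe_zpow, MulAut.conjNormal_apply]
      simpa [map_zpow] using hk
    have hk0 : (k : ZMod p) ≠ 0 := fun h => hw (by rw [← hk', h, zero_smul])
    refine ⟨⟨ρ (x, Units.mk0 _ hk0), _, rfl⟩, ?_⟩
    show cj x ((k : ZMod p) • v) = w
    rw [map_smul]; exact hk'
  -- planes
  let T := {A : Subgroup X // A ≤ P ∧ Nat.card A = p ^ 2}
  haveI : Fintype T := Fintype.ofFinite _
  set c := Nat.card T with hc
  have hcount : c * ((p ^ 2 - 1) * (p ^ 2 - p)) = (p ^ n - 1) * (p ^ n - p) := by
    haveI := Fintype.ofFinite P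
    let D := {uv : P × P // uv.1 ≠ 1 ∧ uv.2 ∉ zpowers uv.1}
    have count : ∀ (A : Subgroup X) (hA : A ≤ P) (m : ℕ), Nat.card A = p ^ m →
        Nat.card {uv : A × A // uv.1 ≠ 1 ∧ uv.2 ∉ zpowers uv.1} = (p ^ m - 1) * (p ^ m - p) := by
      intro A hA m hm
      haveI := Fintype.ofFinite A
      rw [Nat.card_congr ((Equiv.subtypeProdEquivSigmaSubtype (fun u v : A => u ≠ 1 ∧ v ∉ zpowers u))),
        Nat.card_sigma]
      have e : ∀ u : A, Nat.card {v : A // u ≠ 1 ∧ v ∉ zpowers u} = if u = 1 then 0 else p ^ m - p := by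
        intro u
        split_ifs with hu
        · simp [hu]
        · have h1 : Nat.card (zpowers u) = p := by
            rw [Nat.card_zpowers]
            exact orderOf_eq_prime (Subtype.ext (by simpa using hPexp _ (hA u.2))) hu
          have h2 : {v : A // u ≠ 1 ∧ v ∉ zpowers u} ≃ ((zpowers u : Set A)ᶜ : Set A) :=
            Equiv.subtypeEquivRight fun v => ⟨fun h => h.2, fun h => ⟨hu, h⟩⟩
          have h3 : ((zpowers u : Set A)).ncard = p := by rw [← Nat.card_coe_set_eq]; exact h1
          rw [Nat.card_congr h2, Nat.card_coe_set_eq, Set.ncard_compl, hm, h3]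
      rw [Finset.sum_congr rfl (fun u _ => e u), Finset.sum_ite, Finset.sum_const_zero, zero_add, Finset.sum_const,
        smul_eq_mul, Finset.filter_ne' Finset.univ (1 : A), Finset.card_erase_of_mem (Finset.mem_univ _),
        Finset.card_univ, ← Nat.card_eq_fintype_card, hm]
    have span : ∀ u v : P, u ≠ 1 → v ∉ zpowers u →
        Subgroup.closure ({(u : X), (v : X)} : Set X) ≤ P ∧ Nat.card (Subgroup.closure ({(u : X), (v : X)} : Set X)) = p ^ 2 := by
      intro u v hu hv
      set C := Subgroup.closure ({(u : X), (v : X)} : Set X) with hC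
      have hle : C ≤ P := (closure_le P).2 (by rintro y (rfl | rfl); exacts [u.2, v.2])
      refine ⟨hle, ?_⟩
      let f : Multiplicative (ZMod p) × Multiplicative (ZMod p) → P :=
        fun ij => u ^ (Multiplicative.toAdd ij.1).val * v ^ (Multiplicative.toAdd ij.2).val
      have hup : ∀ i : ℕ, u ^ (i % p) = u ^ i := fun i => (pow_eq_pow_mod i (Subtype.ext (by simpa using hPexp _ u.2))).symm
      have hvp : ∀ i : ℕ, v ^ (i % p) = v ^ i := fun i => (pow_eq_pow_mod i (Subtype.ext (by simpa using hPexp _ v.2))).symm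
      let F : Multiplicative (ZMod p) × Multiplicative (ZMod p) →* X := MonoidHom.comp P.subtype (MonoidHom.mk' f fun a b => by
        show u ^ (Multiplicative.toAdd a.1 + Multiplicative.toAdd b.1).val *
          v ^ (Multiplicative.toAdd a.2 + Multiplicative.toAdd b.2).val =
          (u ^ (Multiplicative.toAdd a.1).val * v ^ (Multiplicative.toAdd a.2).val) *
            (u ^ (Multiplicative.toAdd b.1).val * v ^ (Multiplicative.toAdd b.2).val)
        rw [ZMod.val_add, ZMod.val_add, hup, hvp, pow_add, pow_add, mul_mul_mul_comm])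
      have hCr : C = F.range := by
        refine le_antisymm ((closure_le _).2 ?_) ?_
        · haveI : Fact (1 < p) := ⟨hp.out.one_lt⟩
          rintro y (rfl | rfl)
          · exact ⟨(Multiplicative.ofAdd 1, Multiplicative.ofAdd 0), by simp [F, f, ZMod.val_one]⟩
          · exact ⟨(Multiplicative.ofAdd 0, Multiplicative.ofAdd 1), by simp [F, f, ZMod.val_one]⟩
        · rintro - ⟨ij, rfl⟩
          show ((f ij : P) : X) ∈ C
          rw [show ((f ij : P) : X) = (u : X) ^ (Multiplicative.toAdd ij.1).val * (v : X) ^ (Multiplicative.toAdd ij.2).val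
            from by simp [f]]
          exact C.mul_mem (C.pow_mem (subset_closure (Set.mem_insert _ _)) _)
            (C.pow_mem (subset_closure (Set.mem_insert_of_mem _ rfl)) _)
      have hle2 : Nat.card C ≤ p ^ 2 := by
        rw [hCr, MonoidHom.range_eq_map]
        refine le_trans (Nat.le_of_dvd Nat.card_pos (Subgroup.card_map_dvd (f := F) ⊤)) ?_
        rw [Subgroup.card_top, Nat.card_prod, Nat.card_congr Multiplicative.toAdd, Nat.card_zmod, pow_two]
      obtain ⟨j, -, hj⟩ := (Nat.dvd_prime_pow hp.out).1 (hcard ▸ Subgroup.card_dvd_of_le hle)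
      have hlt : p < Nat.card C := by
        have hsub : (zpowers (u : X) : Set X) ⊂ (C : Set X) := by
          refine Set.ssubset_iff_of_subset (zpowers_le.2 (subset_closure (Set.mem_insert _ _))) |>.2
            ⟨(v : X), subset_closure (Set.mem_insert_of_mem _ rfl), fun h => hv ?_⟩
          obtain ⟨i, hi⟩ := h
          exact ⟨i, Subtype.ext (by simpa using hi)⟩
        have := Set.ncard_lt_ncard hsub (Set.toFinite _)
        rw [← Nat.card_coe_set_eq, ← Nat.card_coe_set_eq] at this
        calc p = Nat.card (zpowers (u : X)) := by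
              rw [Nat.card_zpowers]
              exact (orderOf_eq_prime (hPexp _ u.2) fun h => hu (Subtype.ext h)).symm
          _ < _ := this
      rw [hj] at hle2 hlt ⊢
      have h1 : 1 < j := (Nat.pow_lt_pow_iff_right hp.out.one_lt).1 (by rwa [pow_one])
      have h2 : j ≤ 2 := (Nat.pow_le_pow_iff_right hp.out.one_lt).1 hle2
      rw [show j = 2 by omega]
    let toT : D → T := fun d => ⟨_, span d.1.1 d.1.2 d.2.1 d.2.2⟩
    have hfib : ∀ A : T, Nat.card {d : D // toT d = A} = (p ^ 2 - 1) * (p ^ 2 - p) := by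
      intro A
      rw [← count A.1 A.2.1 2 A.2.2]
      refine Nat.card_congr
        { toFun := fun d => ⟨(⟨(d.1.1.1 : X), by rw [← congrArg Subtype.val d.2]; exact subset_closure (Set.mem_insert _ _)⟩,
            ⟨(d.1.1.2 : X), by rw [← congrArg Subtype.val d.2]; exact subset_closure (Set.mem_insert_of_mem _ rfl)⟩),
            fun h => d.1.2.1 (Subtype.ext (congrArg (fun z : A.1 => (z : X)) h)), fun ⟨i, hi⟩ => d.1.2.2 ⟨i, Subtype.ext (by
              have := congrArg (fun z : A.1 => (z : X)) hi
              simpa using this)⟩⟩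
          invFun := fun uv => ⟨⟨(⟨(uv.1.1 : X), A.2.1 uv.1.1.2⟩, ⟨(uv.1.2 : X), A.2.1 uv.1.2.2⟩),
            fun h => uv.2.1 (Subtype.ext (congrArg (fun z : P => (z : X)) h)), fun ⟨i, hi⟩ => uv.2.2 ⟨i, Subtype.ext (by
              have := congrArg (fun z : P => (z : X)) hi
              simpa using this)⟩⟩, by
            have hne : (⟨(uv.1.1 : X), A.2.1 uv.1.1.2⟩ : P) ≠ 1 :=
              fun h => uv.2.1 (Subtype.ext (congrArg (fun z : P => (z : X)) h))
            have hnm : (⟨(uv.1.2 : X), A.2.1 uv.1.2.2⟩ : P) ∉ zpowers (⟨(uv.1.1 : X), A.2.1 uv.1.1.2⟩ : P) :=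
              fun ⟨i, hi⟩ => uv.2.2 ⟨i, Subtype.ext (by
                have := congrArg (fun z : P => (z : X)) hi
                simpa using this)⟩
            have hs := span _ _ hne hnm
            refine Subtype.ext (Subgroup.eq_of_le_of_card_ge ((closure_le A.1).2 ?_) (A.2.2.trans hs.2.symm).le)
            rintro y (rfl | rfl)
            exacts [uv.1.1.2, uv.1.2.2]⟩
          left_inv := fun d => rfl
          right_inv := fun uv => rfl }
    have hD : Nat.card D = (p ^ n - 1) * (p ^ n - p) := by
      rw [← count P le_rfl n hcard]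
    rw [← hD, ← Nat.card_congr (Equiv.sigmaFiberEquiv toT), Nat.card_sigma, Finset.sum_congr rfl (fun A _ => hfib A),
      Finset.sum_const, Finset.card_univ, smul_eq_mul, hc, Nat.card_eq_fintype_card]
  -- the action of G₁ on planes
  have hG₁T : c * (p - 1) ∣ Nat.card G₁ := by
    let sub : T → AddSubgroup V := fun A => (A.1.subgroupOf P).toAddSubgroup
    have hsub : ∀ (A : T) (v : V), v ∈ sub A ↔ ((Additive.toMul v : P) : X) ∈ A.1 := fun A v => Iff.rfl
    have hinj : Function.Injective sub := fun A B h => Subtype.ext (SetLike.ext fun x => by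
      constructor
      · intro hx
        have := (hsub A (Additive.ofMul ⟨x, A.2.1 hx⟩)).2 hx
        rw [h] at this
        exact this
      · intro hx
        have := (hsub B (Additive.ofMul ⟨x, B.2.1 hx⟩)).2 hx
        rw [← h] at this
        exact this)
    let act : G₁ → AddSubgroup V → AddSubgroup V := fun g W => W.map (g : V ≃ₗ[ZMod p] V).toAddEquiv.toAddMonoidHom
    letI : MulAction G₁ (AddSubgroup V) :=
      { smul := act
        one_smul := fun W => by
          show W.map _ = W
          ext v
          exact ⟨fun ⟨w, hw, e⟩ => e ▸ hw, fun h => ⟨v, h, rfl⟩⟩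
        mul_smul := fun g h W => by
          show W.map _ = (W.map _).map _
          rw [AddSubgroup.map_map]; rfl }
    haveI : Nonempty T := by
      by_contra hne
      rw [not_nonempty_iff] at hne
      have h0 : c = 0 := by rw [hc, Nat.card_of_isEmpty]
      rw [h0, zero_mul] at hcount
      have h1 : 1 < p ^ n := Nat.one_lt_pow (by omega) hp.out.one_lt
      have h2 : p < p ^ n := by
        calc p = p ^ 1 := (pow_one p).symm
          _ < _ := Nat.pow_lt_pow_right hp.out.one_lt (by omega)
      rcases Nat.mul_eq_zero.1 hcount.symm with h | h <;> omega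
    obtain ⟨A₀⟩ := (inferInstance : Nonempty T)
    have horb : MulAction.orbit G₁ (sub A₀) = Set.range sub := by
      ext W
      constructor
      · rintro ⟨⟨-, ⟨x, k⟩, rfl⟩, rfl⟩
        refine ⟨⟨A₀.1.map (MulAut.conj x).toMonoidHom, ?_, ?_⟩, ?_⟩
        · rintro - ⟨y, hy, rfl⟩
          exact (inferInstance : P.Normal).conj_mem y (A₀.2.1 hy) x
        · rw [Subgroup.card_map_of_injective (MulAut.conj x).injective]; exact A₀.2.2
        · show _ = (sub A₀).map _
          ext v
          rw [hsub, AddSubgroup.mem_map]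
          constructor
          · rintro ⟨y, hy, hyv⟩
            refine ⟨((k⁻¹ : (ZMod p)ˣ) : ZMod p) • Additive.ofMul ⟨y, A₀.2.1 hy⟩, ?_, ?_⟩
            · rw [← ZMod.natCast_zmod_val ((k⁻¹ : (ZMod p)ˣ) : ZMod p), Nat.cast_smul_eq_nsmul]
              exact AddSubgroup.nsmul_mem _ ((hsub A₀ (Additive.ofMul ⟨y, A₀.2.1 hy⟩)).2 hy) _
            · show cj x ((k : ZMod p) • (((k⁻¹ : (ZMod p)ˣ) : ZMod p) • Additive.ofMul _)) = v
              rw [smul_smul, Units.mul_inv, one_smul, hcj]
              exact congrArg Additive.ofMul (Subtype.ext hyv)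
          · rintro ⟨w, hw, rfl⟩
            show ((Additive.toMul (cj x ((k : ZMod p) • w)) : P) : X) ∈ _
            have hw' : (k : ZMod p) • w ∈ sub A₀ := by
              rw [← ZMod.natCast_zmod_val (k : ZMod p), Nat.cast_smul_eq_nsmul]
              exact AddSubgroup.nsmul_mem _ hw _
            exact ⟨_, (hsub A₀ _).1 hw', rfl⟩
      · rintro ⟨A, rfl⟩
        obtain ⟨x, hx⟩ := htr A₀.1 A.1 A₀.2.1 A.2.1 (A₀.2.2.trans A.2.2.symm)
        refine ⟨⟨ρ (x, 1), _, rfl⟩, ?_⟩
        show (sub A₀).map _ = sub A
        ext v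
        rw [hsub, AddSubgroup.mem_map, ← hx]
        constructor
        · rintro ⟨w, hw, rfl⟩
          refine ⟨_, (hsub A₀ w).1 hw, ?_⟩
          show x * ((Additive.toMul w : P) : X) * x⁻¹ = ((Additive.toMul (cj x (sc 1 w)) : P) : X)
          rw [map_one sc]; rfl
        · rintro ⟨y, hy, hyv⟩
          refine ⟨Additive.ofMul ⟨y, A₀.2.1 hy⟩, hy, ?_⟩
          show cj x (sc 1 _) = v
          rw [map_one sc]
          exact congrArg Additive.ofMul (Subtype.ext hyv)
    have horbc : Nat.card (MulAction.orbit G₁ (sub A₀)) = c := by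
      rw [horb, Nat.card_range_of_injective hinj]
    have hstab : p - 1 ∣ Nat.card (MulAction.stabilizer G₁ (sub A₀)) := by
      let f : (ZMod p)ˣ →* MulAction.stabilizer G₁ (sub A₀) :=
        ((ρ.rangeRestrict.comp (MonoidHom.inr X (ZMod p)ˣ))).codRestrict _ (fun k => by
          show (sub A₀).map _ = sub A₀
          ext v
          rw [AddSubgroup.mem_map]
          have hcl : ∀ (a : (ZMod p)) (w : V), w ∈ sub A₀ → a • w ∈ sub A₀ := fun a w hw => by
            rw [← ZMod.natCast_zmod_val a, Nat.cast_smul_eq_nsmul]; exact AddSubgroup.nsmul_mem _ hw _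
          constructor
          · rintro ⟨w, hw, rfl⟩
            show cj 1 (sc k w) ∈ sub A₀
            rw [map_one cj]
            exact hcl _ w hw
          · intro hv
            refine ⟨((k⁻¹ : (ZMod p)ˣ) : ZMod p) • v, hcl _ v hv, ?_⟩
            show cj 1 (sc k _) = v
            rw [map_one cj]
            show (k : ZMod p) • (((k⁻¹ : (ZMod p)ˣ) : ZMod p) • v) = v
            rw [smul_smul, Units.mul_inv, one_smul])
      have hf : Function.Injective f := by
        intro a b hab
        have h1 : cj 1 * sc a = cj 1 * sc b :=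
          congrArg (fun z : MulAction.stabilizer G₁ (sub A₀) => ((z : G₁) : V ≃ₗ[ZMod p] V)) hab
        have h2 := mul_left_cancel h1
        obtain ⟨v, hv⟩ := exists_ne (0 : V)
        have h3 : (a : ZMod p) • v = (b : ZMod p) • v := LinearEquiv.congr_fun h2 v
        exact Units.ext (smul_left_injective (ZMod p) hv h3)
      have := Subgroup.card_dvd_of_injective f hf
      rwa [Nat.card_units, Nat.card_zmod] at this
    rw [← (MulAction.stabilizer G₁ (sub A₀)).card_mul_index, Subgroup.index,
      ← Nat.card_congr (MulAction.orbitEquivQuotientStabilizer G₁ (sub A₀)), horbc, mul_comm c]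
    exact Nat.mul_dvd_mul_right hstab c
  -- Huppert
  have hnn : n = 4 → p = 3 → False := by
    rintro rfl rfl
    have h80 : Nat.card V - 1 ∣ Nat.card G₁ := by
      letI : DistribMulAction G₁ V :=
        { smul := fun g v => (g : V ≃ₗ[ZMod 3] V) v
          one_smul := fun _ => rfl
          mul_smul := fun _ _ _ => rfl
          smul_zero := fun g => map_zero (g : V ≃ₗ[ZMod 3] V)
          smul_add := fun g => map_add (g : V ≃ₗ[ZMod 3] V) }
      exact (TransLin.Setup.mk Nat.prime_three (fun v => by
          rw [← Nat.cast_smul_eq_nsmul (ZMod 3), ZMod.natCast_self, zero_smul])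
        (fun g hg => Subtype.ext (LinearEquiv.ext hg)) htv (exists_ne 0) :
          TransLin.Setup G₁ V 3).card_orbit_dvd
    rw [hVcard] at h80
    have hc130 : c = 130 := by norm_num at hcount; omega
    rw [hc130] at hG₁T
    letI : DistribMulAction G₁ V :=
      { smul := fun g v => (g : V ≃ₗ[ZMod 3] V) v
        one_smul := fun _ => rfl
        mul_smul := fun _ _ _ => rfl
        smul_zero := fun g => map_zero (g : V ≃ₗ[ZMod 3] V)
        smul_add := fun g => map_add (g : V ≃ₗ[ZMod 3] V) }
    haveI : FaithfulSMul G₁ V := ⟨fun h => Subtype.ext (LinearEquiv.ext h)⟩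
    exact no_five_thirteen (V := V) (H := G₁) hVcard ((by norm_num : 5 ∣ (3 : ℕ) ^ 4 - 1).trans h80)
      ((by norm_num : 13 ∣ 130 * (3 - 1)).trans hG₁T)
  rcases Cfsg.Agent.S3360.result p (V := V) (G := G₁) inferInstance G₁.subtype Subtype.coe_injective htv with
    ⟨F₀, iF, iFt, e₀, hsemi⟩ | hexc
  swap
  · exfalso
    rw [hVcard] at hexc
    simp only [Set.mem_insert_iff, Set.mem_singleton_iff] at hexc
    have key : ∀ r k : ℕ, r.Prime → p ^ n = r ^ k → 0 < k → p = r ∧ n = k := by
      intro r k hr h hk
      have h1 : p ∣ r ^ k := h ▸ dvd_pow_self p (by omega)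
      have h2 := (Nat.prime_dvd_prime_iff_eq hp.out hr).1 (hp.out.dvd_of_dvd_pow h1)
      subst h2
      exact ⟨rfl, Nat.pow_right_injective hp.out.two_le h⟩
    rcases hexc with h | h | h | h | h | h
    · have := key 3 2 Nat.prime_three (by rw [h]; rfl) (by omega); omega
    · have := key 5 2 (by norm_num) (by rw [h]; rfl) (by omega); omega
    · have := key 7 2 (by norm_num) (by rw [h]; rfl) (by omega); omega
    · have := key 11 2 (by norm_num) (by rw [h]; rfl) (by omega); omega
    · have := key 23 2 (by norm_num) (by rw [h]; rfl) (by omega); omega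
    · obtain ⟨h1, h2⟩ := key 3 4 Nat.prime_three (by rw [h]; rfl) (by omega)
      exact hnn h2 h1
  letI := iF
  letI := iFt
  haveI : Fintype (GaloisField p n) := Fintype.ofFinite _
  have hFc : Fintype.card F₀ = Fintype.card (GaloisField p n) := by
    rw [← Nat.card_eq_fintype_card, ← Nat.card_eq_fintype_card, GaloisField.card p n (by omega), ← hVcard]
    exact (Nat.card_congr e₀.toEquiv).symm
  let r : F₀ ≃+* GaloisField p n := FiniteField.ringEquivOfCardEq hFc
  let e : V ≃+ GaloisField p n := e₀.trans r.toAddEquiv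
  have hsemi' : ∀ g : G₁, ∃ (a : (GaloisField p n)ˣ) (σ : GaloisField p n ≃+* GaloisField p n),
      ∀ v : V, e ((g : V ≃ₗ[ZMod p] V) v) = (a : GaloisField p n) * σ (e v) := by
    intro g
    obtain ⟨a, σ, h⟩ := hsemi g
    have ha : r a ≠ 0 := fun ha0 => by
      obtain ⟨v, hv⟩ := exists_ne (0 : V)
      have h1 : e ((g : V ≃ₗ[ZMod p] V) v) = 0 := by
        show r (e₀ ((g : V ≃ₗ[ZMod p] V) v)) = 0
        rw [show (g : V ≃ₗ[ZMod p] V) v = G₁.subtype g v from rfl, h v, map_mul, ha0, zero_mul]
      exact hv ((LinearEquiv.map_eq_zero_iff _).1 ((AddEquiv.map_eq_zero_iff e).1 h1))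
    refine ⟨Units.mk0 _ ha, (r.symm.trans σ).trans r, fun v => ?_⟩
    show r (e₀ (G₁.subtype g v)) = r a * r (σ (r.symm (r (e₀ v))))
    rw [h v, map_mul, RingEquiv.symm_apply_apply]
  -- G₁ embeds in the semilinear group
  have hG₁d : Nat.card G₁ ∣ (p ^ n - 1) * n := by
    rw [← card_stabilizer_zero p n (by omega)]
    let φ : G₁ →* (Cfsg.semiaffineGroup (GaloisField p n) ⊓
        MulAction.stabilizer (Equiv.Perm (GaloisField p n)) (0 : GaloisField p n) : Subgroup _) :=
      { toFun := fun g => ⟨(e.toEquiv.symm.trans (g : V ≃ₗ[ZMod p] V).toEquiv).trans e.toEquiv, by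
          obtain ⟨a, σ, h⟩ := hsemi' g
          refine ⟨⟨a, 0, σ, fun x => ?_⟩, ?_⟩
          · show e ((g : V ≃ₗ[ZMod p] V) (e.symm x)) = _
            rw [h, AddEquiv.apply_symm_apply, add_zero]
          · show e ((g : V ≃ₗ[ZMod p] V) (e.symm 0)) = 0
            rw [map_zero, map_zero, map_zero]⟩
        map_one' := Subtype.ext (Equiv.ext fun x => e.apply_symm_apply x)
        map_mul' := fun g h => Subtype.ext (Equiv.ext fun x => by
          show e ((g : V ≃ₗ[ZMod p] V) ((h : V ≃ₗ[ZMod p] V) (e.symm x))) =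
            e ((g : V ≃ₗ[ZMod p] V) (e.symm (e ((h : V ≃ₗ[ZMod p] V) (e.symm x)))))
          rw [AddEquiv.symm_apply_apply]) }
    refine Subgroup.card_dvd_of_injective φ fun g h hgh => Subtype.ext (LinearEquiv.ext fun v => ?_)
    have h1 : e ((g : V ≃ₗ[ZMod p] V) (e.symm (e v))) = e ((h : V ≃ₗ[ZMod p] V) (e.symm (e v))) :=
      Equiv.ext_iff.1 (congrArg Subtype.val hgh) (e v)
    rw [AddEquiv.symm_apply_apply] at h1
    exact e.injective h1
  -- the affine action
  obtain ⟨C, hC⟩ := exists_right_complement'_of_coprime hidx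
  have huniq : ∀ x : X, ∃ u : P, ∃ h ∈ C, x = (u : X) * h := by
    intro x
    obtain ⟨⟨u, h⟩, rfl⟩ := hC.2 x
    exact ⟨u, h, h.2, rfl⟩
  let mkC : P → X ⧸ C := fun u => ((u : X) : X ⧸ C)
  have hmk : Function.Bijective mkC := by
    constructor
    · intro a b hab
      have h1 : ((a : X))⁻¹ * (b : X) ∈ C := QuotientGroup.eq.1 hab
      have h2 : ((a⁻¹ * b : P) : X) ∈ P ⊓ C := ⟨(a⁻¹ * b).2, by simpa using h1⟩
      rw [hC.disjoint.eq_bot, mem_bot] at h2
      exact inv_mul_eq_one.1 (Subtype.ext h2)
    · intro q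
      induction q using QuotientGroup.induction_on with
      | H x =>
        obtain ⟨u, h, hh, rfl⟩ := huniq x
        exact ⟨u, QuotientGroup.eq.2 (by simpa using hh)⟩
  let E : X ⧸ C ≃ GaloisField p n :=
    ((Equiv.ofBijective mkC hmk).symm.trans Additive.ofMul).trans e.toEquiv
  let Φ : X →* Equiv.Perm (GaloisField p n) := E.permCongrHom.toMonoidHom.comp (MulAction.toPermHom X (X ⧸ C))
  have hΦ : ∀ (u : P) (h : X), h ∈ C → ∀ v : V,
      Φ ((u : X) * h) (e v) = e (cj h v) + e (Additive.ofMul u) := by
    intro u h hh v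
    have hEe : ∀ w : P, E (mkC w) = e (Additive.ofMul w) := fun w => by
      show e (Additive.ofMul ((Equiv.ofBijective mkC hmk).symm (mkC w))) = _
      rw [Equiv.ofBijective_symm_apply_apply]
    show E (((u : X) * h) • E.symm (e v)) = _
    have h1 : E.symm (e v) = mkC (Additive.toMul v) := by
      rw [Equiv.symm_apply_eq, hEe]; rfl
    rw [h1, show ((u : X) * h) • mkC (Additive.toMul v) = mkC (MulAut.conjNormal (H := P) h (Additive.toMul v) * u) from ?_,
      hEe, ← map_add]
    · rfl
    · show ((((u : X) * h) * (Additive.toMul v : P) : X) : X ⧸ C) = _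
      refine QuotientGroup.eq.2 ?_
      have : (((u : X) * h) * ((Additive.toMul v : P) : X))⁻¹ *
          ((MulAut.conjNormal (H := P) h (Additive.toMul v) * u : P) : X) = h⁻¹ := by
        rw [mul_comm (MulAut.conjNormal (H := P) h (Additive.toMul v)) u, Subgroup.coe_mul, MulAut.conjNormal_apply]
        group
      rw [this]
      exact C.inv_mem hh
  have hlin : ∀ h : X, ∃ (a : (GaloisField p n)ˣ) (σ : GaloisField p n ≃+* GaloisField p n),
      ∀ v : V, e (cj h v) = (a : GaloisField p n) * σ (e v) := fun h => by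
    obtain ⟨a, σ, hh⟩ := hsemi' ⟨cj h, (h, 1), by
      show cj h * sc 1 = cj h
      rw [map_one, mul_one]⟩
    exact ⟨a, σ, hh⟩
  have hΦmem : ∀ x, Φ x ∈ Cfsg.semiaffineGroup (GaloisField p n) := by
    intro x
    obtain ⟨u, h, hh, rfl⟩ := huniq x
    obtain ⟨a, σ, hl⟩ := hlin h
    refine ⟨a, e (Additive.ofMul u), σ, fun y => ?_⟩
    obtain ⟨v, rfl⟩ := e.surjective y
    rw [hΦ u h hh v, hl]
  let f : X →* Cfsg.semiaffineGroup (GaloisField p n) := Φ.codRestrict _ hΦmem
  have hf : Function.Injective f := (injective_iff_map_eq_one f).2 fun x hx => by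
    obtain ⟨u, h, hh, rfl⟩ := huniq x
    have h1 : ∀ v : V, e (cj h v) + e (Additive.ofMul u) = e v := fun v => by
      rw [← hΦ u h hh v, show Φ ((u : X) * h) = 1 from congrArg Subtype.val hx]
      rfl
    have hu : Additive.ofMul u = (0 : V) := by
      have h0 := h1 0
      rw [map_zero, map_zero, zero_add] at h0
      exact (AddEquiv.map_eq_zero_iff e).1 h0
    have hu1 : (u : X) = 1 := congrArg (fun v : V => ((Additive.toMul v : P) : X)) hu
    have h2 : h ∈ P := (hcjc h).1 (LinearEquiv.ext fun v => e.injective (by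
      have := h1 v
      rw [hu, map_zero, add_zero] at this
      exact this))
    have h3 : h ∈ P ⊓ C := ⟨h2, hh⟩
    rw [hC.disjoint.eq_bot, mem_bot] at h3
    rw [hu1, h3, one_mul]
  have hd : c * (p - 1) ∣ (p ^ n - 1) * n := hG₁T.trans hG₁d
  have hX : Nat.card X = p ^ n * Nat.card C := by rw [← hcard]; exact hC.card_mul.symm
  have hCG : p = 2 → Nat.card C = Nat.card G₁ := by
    intro hp2
    subst hp2
    have hr : cj.range = G₁ := by
      refine le_antisymm ?_ ?_
      · rintro - ⟨x, rfl⟩
        exact ⟨(x, 1), by show cj x * sc 1 = cj x; rw [map_one, mul_one]⟩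
      · rintro - ⟨⟨x, k⟩, rfl⟩
        refine ⟨x, ?_⟩
        haveI : Subsingleton (ZMod 2)ˣ := Finite.card_le_one_iff_subsingleton.1 (by rw [Nat.card_units, Nat.card_zmod])
        show cj x = cj x * sc k
        rw [Subsingleton.elim k 1, map_one, mul_one]
    have hk : cj.ker = P := by ext x; rw [MonoidHom.mem_ker]; exact hcjc x
    rw [← hr, ← Subgroup.index_ker, hk]
    exact hC.symm.index_eq_card.symm
  rcases dim_cases hp.out hn hcount hd with rfl | ⟨rfl, rfl⟩
  · left
    refine ⟨rfl, ⟨f, hf⟩, ?_⟩
    rintro rfl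
    have hc7 : c = 7 := by norm_num at hcount; omega
    have h7 : 7 ∣ Nat.card G₁ := by simpa [hc7] using hG₁T
    have h21 : Nat.card G₁ ∣ 21 := by simpa using hG₁d
    have hcases : Nat.card G₁ = 7 ∨ Nat.card G₁ = 21 := by
      have hle := Nat.le_of_dvd (by norm_num) h21
      obtain ⟨t, ht⟩ := h7
      obtain ⟨s, hs⟩ := h21
      have : 0 < Nat.card G₁ := Nat.card_pos
      have : t ≤ 3 := by omega
      rcases (show t = 1 ∨ t = 2 ∨ t = 3 by omega) with rfl | rfl | rfl
      · exact Or.inl ht
      · exfalso; rw [ht] at hs; omega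
      · exact Or.inr ht
    rcases hcases with h | h
    · refine Or.inr ?_
      have haff : ∀ x, Φ x ∈ Cfsg.affineGroup (GaloisField 2 3) := by
        intro x
        obtain ⟨u, h', hh, rfl⟩ := huniq x
        obtain ⟨a, σ, hl⟩ := hlin h'
        refine ⟨a, e (Additive.ofMul u), fun y => ?_⟩
        obtain ⟨v, rfl⟩ := e.surjective y
        rw [hΦ u h' hh v, hl]
        congr 1
        suffices σ = RingEquiv.refl _ by rw [this]; rfl
        have hpow : ∀ k : ℕ, ∃ b : GaloisField 2 3, ∀ w : V, e ((cj h' ^ k) w) = b * (σ ^ k) (e w) := by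
          intro k
          induction k with
          | zero => exact ⟨1, fun w => by simp⟩
          | succ k ih =>
            obtain ⟨b, hb⟩ := ih
            refine ⟨(a : GaloisField 2 3) * σ b, fun w => ?_⟩
            rw [pow_succ', pow_succ']
            show e (cj h' ((cj h' ^ k) w)) = _ * σ ((σ ^ k) (e w))
            rw [hl, hb, map_mul, mul_assoc]
        obtain ⟨b, hb⟩ := hpow 7
        have hmem : cj h' ∈ G₁ := ⟨(h', 1), by show cj h' * sc 1 = cj h'; rw [map_one, mul_one]⟩
        have h71 : cj h' ^ 7 = 1 := by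
          have := pow_card_eq_one' (G := G₁) (x := ⟨_, hmem⟩)
          rw [h] at this
          exact congrArg Subtype.val this
        rw [h71] at hb
        have hb1 : b = 1 := by
          have := hb (e.symm 1)
          have h0 : e ((1 : V ≃ₗ[ZMod 2] V) (e.symm 1)) = 1 := e.apply_symm_apply 1
          rw [h0, AddEquiv.apply_symm_apply, map_one (σ ^ 7), mul_one] at this
          exact this.symm
        have hσ7 : σ ^ 7 = 1 := RingEquiv.ext fun y => by
          have := hb (e.symm y)
          rw [hb1, one_mul, AddEquiv.apply_symm_apply] at this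
          rw [← this]
          exact e.apply_symm_apply y
        haveI : Finite (GaloisField 2 3 ≃+* GaloisField 2 3) :=
          Finite.of_injective (fun f => (f : GaloisField 2 3 → GaloisField 2 3)) DFunLike.coe_injective
        have hσ3 : σ ^ 3 = 1 := by
          have := pow_card_eq_one' (G := GaloisField 2 3 ≃+* GaloisField 2 3) (x := σ)
          rwa [card_ringAut 2 3 (by norm_num)] at this
        calc σ = σ ^ 7 := by rw [show 7 = 3 + 3 + 1 from rfl, pow_add, pow_add, hσ3, one_mul, one_mul, pow_one]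
          _ = _ := hσ7
      let g : X →* Cfsg.affineGroup (GaloisField 2 3) := Φ.codRestrict _ haff
      have hg : Function.Injective g := fun x y hxy =>
        hf (Subtype.ext (show Φ x = Φ y from congrArg (fun z : Cfsg.affineGroup (GaloisField 2 3) => (z : Equiv.Perm (GaloisField 2 3))) hxy))
      have hcardA : Nat.card (Cfsg.affineGroup (GaloisField 2 3)) = 56 := by
        let m : (GaloisField 2 3)ˣ × GaloisField 2 3 → Cfsg.affineGroup (GaloisField 2 3) := fun t =>
          ⟨(Units.mulLeft t.1).trans (Equiv.addRight t.2), t.1, t.2, fun x => rfl⟩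
        have hm : Function.Bijective m := by
          constructor
          · rintro ⟨a, b⟩ ⟨a', b'⟩ hab
            obtain ⟨h1, h2, -⟩ := semiaffine_unique (a := a) (a' := a') (b := b) (b' := b')
              (φ := RingEquiv.refl _) (φ' := RingEquiv.refl _) fun x => Equiv.ext_iff.1 (congrArg Subtype.val hab) x
            rw [h1, h2]
          · rintro ⟨σ, a, b, hσ⟩
            exact ⟨(a, b), Subtype.ext (Equiv.ext fun x => (hσ x).symm)⟩
        rw [← Nat.card_eq_of_bijective m hm, Nat.card_prod, Nat.card_units, GaloisField.card 2 3 (by norm_num)]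
        norm_num
      exact ⟨MulEquiv.ofBijective g ((Nat.bijective_iff_injective_and_card g).2
        ⟨hg, by rw [hX, hCG rfl, h, hcardA]; norm_num⟩)⟩
    · exact Or.inl ⟨MulEquiv.ofBijective f ((Nat.bijective_iff_injective_and_card f).2
        ⟨hf, by rw [hX, hCG rfl, h, card_semiaffine 2 3 (by norm_num)]; norm_num⟩)⟩
  · right
    refine ⟨rfl, rfl, ⟨MulEquiv.ofBijective f ((Nat.bijective_iff_injective_and_card f).2 ⟨hf, ?_⟩)⟩⟩
    have hc155 : c = 155 := by norm_num at hcount; omega
    have h1 : 155 ∣ Nat.card G₁ := by simpa [hc155] using hG₁T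
    have h2 : Nat.card G₁ ∣ 155 := by simpa using hG₁d
    rw [hX, hCG rfl, Nat.dvd_antisymm h2 h1, card_semiaffine 2 5 (by norm_num)]
    norm_num

end Cfsg.Agent.SubspaceTrans
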